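import Mathlib.CategoryTheory.Triangulated.Pretriangulated
import Mathlib.CategoryTheory.Triangulated.Triangulated
import Mathlib.CategoryTheory.Limits.Shapes.Products
import Mathlib.CategoryTheory.Limits.Preserves.Shapes.Products
import Mathlib.CategoryTheory.Adjunction.Limits

/-!
# Brown representability for perfectly generated triangulated categories (Krause)

We work with an "elementwise" notion `CF` of cohomological functor `Dᵒᵖ → Ab` turning
coproducts into products, and prove that such a functor is representable as soon as `D`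
has a set of objects `E i` detecting zero objects and such that every morphism
`E i ⟶ ∐ₙ Xₙ` factors through some `∐ₙ E (j n) ⟶ ∐ₙ Xₙ` induced by maps `E (j n) ⟶ Xₙ`.
-/

set_option autoImplicit false
set_option linter.unusedSectionVars false

universe v u

open CategoryTheory CategoryTheory.Limits CategoryTheory.Pretriangulated

namespace Groth.Agent.H5.Brown

variable {D : Type u} [Category.{v} D] [Preadditive D] [HasZeroObject D] [HasShift D ℤ]
  [∀ n : ℤ, (shiftFunctor D n).Additive] [Pretriangulated D]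
  [HasCoproducts.{v} D] [HasColimitsOfShape (Discrete ℕ) D]

/-- An elementwise description of a cohomological functor `Dᵒᵖ → Ab` which turns coproducts
into products. -/
structure CF (D : Type u) [Category.{v} D] [Preadditive D] [HasZeroObject D] [HasShift D ℤ]
    [∀ n : ℤ, (shiftFunctor D n).Additive] [Pretriangulated D]
    [HasCoproducts.{v} D] [HasColimitsOfShape (Discrete ℕ) D] where
  obj : D → Type v
  [grp : ∀ A, AddCommGroup (obj A)]
  map : ∀ {A B : D}, (A ⟶ B) → (obj B →+ obj A)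
  map_id : ∀ (A : D) (x : obj A), map (𝟙 A) x = x
  map_comp : ∀ {A B C : D} (f : A ⟶ B) (g : B ⟶ C) (x : obj C),
    map (f ≫ g) x = map f (map g x)
  map_add : ∀ {A B : D} (f g : A ⟶ B) (x : obj B), map (f + g) x = map f x + map g x
  exact : ∀ (T : Triangle D), T ∈ distTriang D → ∀ x : obj T.obj₂, map T.mor₁ x = 0 →
    ∃ y : obj T.obj₃, map T.mor₂ y = x
  prod_inj : ∀ {κ : Type v} (Y : κ → D) (x y : obj (∐ Y)),
    (∀ k, map (Sigma.ι Y k) x = map (Sigma.ι Y k) y) → x = y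
  prod_surj : ∀ {κ : Type v} (Y : κ → D) (z : ∀ k, obj (Y k)),
    ∃ x : obj (∐ Y), ∀ k, map (Sigma.ι Y k) x = z k
  prod_inj_nat : ∀ (Y : ℕ → D) (x y : obj (∐ Y)),
    (∀ k, map (Sigma.ι Y k) x = map (Sigma.ι Y k) y) → x = y
  prod_surj_nat : ∀ (Y : ℕ → D) (z : ∀ k, obj (Y k)),
    ∃ x : obj (∐ Y), ∀ k, map (Sigma.ι Y k) x = z k

attribute [instance] CF.grp

namespace CF

variable (F : CF D)

lemma map_zero_left {A B : D} (x : F.obj B) : F.map (0 : A ⟶ B) x = 0 := by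
  have h := F.map_add (0 : A ⟶ B) 0 x
  rw [add_zero] at h
  exact left_eq_add.mp h

lemma map_neg_left {A B : D} (f : A ⟶ B) (x : F.obj B) : F.map (-f) x = - F.map f x := by
  have h := F.map_add f (-f) x
  rw [add_neg_cancel, map_zero_left] at h
  exact (neg_eq_of_add_eq_zero_right h.symm).symm

lemma map_sub_left {A B : D} (f g : A ⟶ B) (x : F.obj B) :
    F.map (f - g) x = F.map f x - F.map g x := by
  rw [sub_eq_add_neg, F.map_add, map_neg_left, sub_eq_add_neg]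

end CF

section Members

variable {ι : Type v} (E : ι → D)

/-- the members: objects isomorphic to a shift of some `E i` -/
def IsMem (G : D) : Prop := ∃ (i : ι) (n : ℤ), Nonempty (G ≅ (E i)⟦n⟧)

lemma isMem_shiftE (i : ι) (n : ℤ) : IsMem E ((E i)⟦n⟧) := ⟨i, n, ⟨Iso.refl _⟩⟩

lemma isMem_E (i : ι) : IsMem E (E i) :=
  ⟨i, 0, ⟨((shiftFunctorZero D ℤ).app (E i)).symm⟩⟩

lemma isMem_shift {G : D} (h : IsMem E G) (m : ℤ) : IsMem E (G⟦m⟧) := by
  obtain ⟨i, n, ⟨e⟩⟩ := h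
  exact ⟨i, n + m, ⟨(shiftFunctor D m).mapIso e ≪≫ ((shiftFunctorAdd D n m).app (E i)).symm⟩⟩

lemma isMem_of_iso {G G' : D} (e : G' ≅ G) (h : IsMem E G) : IsMem E G' := by
  obtain ⟨i, n, ⟨e'⟩⟩ := h
  exact ⟨i, n, ⟨e ≪≫ e'⟩⟩

/-- the perfectness hypothesis -/
def Perfect : Prop :=
  ∀ (X : ℕ → D) (i : ι) (α : E i ⟶ ∐ X), ∃ (j : ℕ → ι) (β : ∀ n, E (j n) ⟶ X n)
      (γ : E i ⟶ ∐ (fun n => E (j n))), α = γ ≫ Limits.Sigma.map β

variable {E}

/-- the perfectness hypothesis extends to all members -/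
lemma factor_mem (h2 : Perfect E) {G : D} (hG : IsMem E G) (Y : ℕ → D) (α : G ⟶ ∐ Y) :
    ∃ (U : ℕ → D) (_ : ∀ n, IsMem E (U n)) (b : ∀ n, U n ⟶ Y n) (γ : G ⟶ ∐ U),
      α = γ ≫ Limits.Sigma.map b := by
  obtain ⟨i, m, ⟨e⟩⟩ := hG
  let Φ := shiftFunctor D m
  let Y' : ℕ → D := fun n => (Y n)⟦-m⟧
  let κ : ∀ n, (Y' n)⟦m⟧ ≅ Y n := fun n => shiftNegShift (Y n) m
  let c := sigmaComparison Φ Y'
  let a : Φ.obj (E i) ⟶ Φ.obj (∐ Y') := e.inv ≫ α ≫ Limits.Sigma.map (fun n => (κ n).inv) ≫ c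
  obtain ⟨j, β₀, γ₀, h⟩ := h2 Y' i (Φ.preimage a)
  let cE := sigmaComparison Φ (fun n => E (j n))
  refine ⟨fun n => (E (j n))⟦m⟧, fun n => isMem_shiftE E (j n) m,
    fun n => Φ.map (β₀ n) ≫ (κ n).hom, e.hom ≫ Φ.map γ₀ ≫ inv cE, ?_⟩
  have hnat : Limits.Sigma.map (fun n => Φ.map (β₀ n)) ≫ c = cE ≫ Φ.map (Limits.Sigma.map β₀) := by
    apply Sigma.hom_ext
    intro n
    simp only [c, cE, Sigma.ι_map_assoc, ι_comp_sigmaComparison, ι_comp_sigmaComparison_assoc,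
      ← Φ.map_comp, Sigma.ι_map]
  have hnat' : inv cE ≫ Limits.Sigma.map (fun n => Φ.map (β₀ n)) = Φ.map (Limits.Sigma.map β₀) ≫ inv c := by
    rw [IsIso.inv_comp_eq, ← Category.assoc, ← hnat, Category.assoc, IsIso.hom_inv_id,
      Category.comp_id]
  have ha : Φ.map γ₀ ≫ Φ.map (Limits.Sigma.map β₀) = a := by
    rw [← Φ.map_comp, ← h, Functor.map_preimage]
  have hκ : Limits.Sigma.map (fun n => (κ n).inv) ≫ Limits.Sigma.map (fun n => (κ n).hom) = 𝟙 _ := by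
    rw [Limits.Sigma.map_comp_map]
    simp
  calc α = e.hom ≫ a ≫ inv c ≫ Limits.Sigma.map (fun n => (κ n).hom) := by
        simp only [a, Category.assoc, IsIso.hom_inv_id_assoc, e.hom_inv_id_assoc]
        rw [hκ, Category.comp_id]
    _ = (e.hom ≫ Φ.map γ₀ ≫ inv cE) ≫ Limits.Sigma.map (fun n => Φ.map (β₀ n) ≫ (κ n).hom) := by
        rw [← Limits.Sigma.map_comp_map, ← ha]
        simp only [Category.assoc]
        rw [← Category.assoc (inv cE), hnat']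
        simp only [Category.assoc]

/-- exactness for countable coproducts of distinguished triangles (middle term) -/
lemma exact_sigma (W Y Z : ℕ → D) (w : ∀ n, W n ⟶ Y n) (f : ∀ n, Y n ⟶ Z n)
    (g : ∀ n, Z n ⟶ (W n)⟦(1 : ℤ)⟧)
    (hT : ∀ n, Triangle.mk (w n) (f n) (g n) ∈ distTriang D) {A : D} (ε : A ⟶ ∐ Y)
    (hε : ε ≫ Limits.Sigma.map f = 0) :
    ∃ ε' : A ⟶ ∐ W, ε = ε' ≫ Limits.Sigma.map w := by
  obtain ⟨Q, q, h, hQ⟩ := distinguished_cocone_triangle (Limits.Sigma.map w)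
  have hz : ∀ n, ∃ c : Z n ⟶ Q, f n ≫ c = Sigma.ι Y n ≫ q := by
    intro n
    obtain ⟨c, hc, _⟩ := complete_distinguished_triangle_morphism
      (Triangle.mk (w n) (f n) (g n)) (Triangle.mk (Limits.Sigma.map w) q h) (hT n) hQ
      (Sigma.ι W n) (Sigma.ι Y n) (Sigma.ι_map w n).symm
    exact ⟨c, hc⟩
  choose z hz using hz
  have hq : Limits.Sigma.map f ≫ Sigma.desc z = q := by
    apply Sigma.hom_ext
    intro n
    simp [hz]
  have : ε ≫ q = 0 := by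
    rw [← hq, ← Category.assoc, hε, zero_comp]
  exact Triangle.coyoneda_exact₂ _ hQ ε this

/-- the refined perfectness property (Neeman's second condition) -/
lemma factor_mem_zero (h2 : Perfect E) {G : D} (hG : IsMem E G) (Y Z : ℕ → D)
    (f : ∀ n, Y n ⟶ Z n) (ε : G ⟶ ∐ Y) (hε : ε ≫ Limits.Sigma.map f = 0) :
    ∃ (U : ℕ → D) (_ : ∀ n, IsMem E (U n)) (k : ∀ n, U n ⟶ Y n) (γ : G ⟶ ∐ U),
      ε = γ ≫ Limits.Sigma.map k ∧ ∀ n, k n ≫ f n = 0 := by
  have hW := fun n => distinguished_cocone_triangle₁ (f n)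
  choose W w g hT using hW
  obtain ⟨ε', hε'⟩ := exact_sigma W Y Z w f g hT ε hε
  obtain ⟨U, hU, e, γ, hγ⟩ := factor_mem h2 hG W ε'
  refine ⟨U, hU, fun n => e n ≫ w n, γ, ?_, ?_⟩
  · rw [hε', hγ, Category.assoc, Limits.Sigma.map_comp_map]
  · intro n
    rw [Category.assoc]
    have : w n ≫ f n = 0 := comp_distTriang_mor_zero₁₂ _ (hT n)
    rw [this, comp_zero]

end Members


section Telescope

/-! ### Calculus in the coproduct of a sequence -/

variable (X : ℕ → D) (φ : ∀ n, X n ⟶ X (n + 1))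

/-- the shift endomorphism of the coproduct of a sequence -/
noncomputable def sh : (∐ X) ⟶ ∐ X := Sigma.desc (fun n => φ n ≫ Sigma.ι X (n + 1))

/-- one minus shift -/
noncomputable def θ : (∐ X) ⟶ ∐ X := 𝟙 _ - sh X φ

@[reassoc]
lemma ι_sh (n : ℕ) : Sigma.ι X n ≫ sh X φ = φ n ≫ Sigma.ι X (n + 1) := by
  simp [sh]

@[reassoc]
lemma ι_θ (n : ℕ) : Sigma.ι X n ≫ θ X φ = Sigma.ι X n - φ n ≫ Sigma.ι X (n + 1) := by
  rw [θ, Preadditive.comp_sub, Category.comp_id, ι_sh]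

/-- the iterated transition maps from the zeroth term -/
noncomputable def iter : ∀ n, X 0 ⟶ X n
  | 0 => 𝟙 _
  | (n + 1) => iter n ≫ φ n

lemma iter_succ (n : ℕ) : iter X φ (n + 1) = iter X φ n ≫ φ n := rfl

/-- partial telescopes -/
noncomputable def τ : ℕ → (X 0 ⟶ ∐ X)
  | 0 => 0
  | (n + 1) => τ n + iter X φ n ≫ Sigma.ι X n

lemma τ_succ (n : ℕ) : τ X φ (n + 1) = τ X φ n + iter X φ n ≫ Sigma.ι X n := rfl

lemma τ_θ (n : ℕ) : τ X φ n ≫ θ X φ = Sigma.ι X 0 - iter X φ n ≫ Sigma.ι X n := by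
  induction n with
  | zero =>
    simp [τ, iter]
  | succ n ih =>
    rw [τ_succ, Preadditive.add_comp, ih, Category.assoc, ι_θ, Preadditive.comp_sub, iter_succ,
      Category.assoc]
    abel

/-- the constant sequence on the zeroth term -/
abbrev cst : ℕ → D := fun _ => X 0

/-- the shift on the constant sequence -/
noncomputable def shB : (∐ cst X) ⟶ ∐ cst X := sh (cst X) (fun _ => 𝟙 (X 0))

/-- one minus shift on the constant sequence -/
noncomputable def θB : (∐ cst X) ⟶ ∐ cst X := θ (cst X) (fun _ => 𝟙 (X 0))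

/-- the comparison map from the constant sequence -/
noncomputable def Φ : (∐ cst X) ⟶ ∐ X := Limits.Sigma.map (fun n => iter X φ n)

/-- the "integration" map -/
noncomputable def R : (∐ cst X) ⟶ ∐ X := Sigma.desc (fun n => - τ X φ n)

@[reassoc]
lemma ι_Φ (n : ℕ) : Sigma.ι (cst X) n ≫ Φ X φ = iter X φ n ≫ Sigma.ι X n := by
  simp [Φ]

@[reassoc]
lemma ι_R (n : ℕ) : Sigma.ι (cst X) n ≫ R X φ = - τ X φ n := by
  simp [R]

@[reassoc]
lemma ι_θB (n : ℕ) : Sigma.ι (cst X) n ≫ θB X = Sigma.ι (cst X) n - Sigma.ι (cst X) (n + 1) := by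
  rw [θB, ι_θ, Category.id_comp]

lemma θB_R : θB X ≫ R X φ = Φ X φ := by
  apply Sigma.hom_ext
  intro n
  rw [ι_θB_assoc, Preadditive.sub_comp, ι_R, ι_R, ι_Φ, τ_succ]
  abel

lemma Φ_θ : Φ X φ ≫ θ X φ = θB X ≫ Φ X φ := by
  apply Sigma.hom_ext
  intro n
  rw [ι_Φ_assoc, ι_θ, ι_θB_assoc, Preadditive.sub_comp, ι_Φ, ι_Φ, Preadditive.comp_sub, iter_succ,
    Category.assoc]

lemma τ_sh_zero {U : D} (k : U ⟶ X 0) (hk : ∀ j, k ≫ iter X φ (j + 1) = 0) (n : ℕ) :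
    k ≫ τ X φ n ≫ sh X φ = 0 := by
  induction n with
  | zero => simp [τ]
  | succ n ih =>
    rw [τ_succ, Preadditive.add_comp, Preadditive.comp_add, ih, zero_add, Category.assoc, ι_sh,
      ← Category.assoc (iter X φ n), ← iter_succ, ← Category.assoc, hk, zero_comp]

end Telescope

section Tower

variable {ι : Type v} (E : ι → D) (F : CF D)

/-- the members indexed by `ι × ℤ` -/
abbrev Ebar (m : ι × ℤ) : D := (E m.1)⟦m.2⟧

lemma isMem_Ebar (m : ι × ℤ) : IsMem E (Ebar E m) := isMem_shiftE E m.1 m.2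

/-- a stage of the tower: an object with an element -/
structure Stage where
  X : D
  ξ : F.obj X

variable {F}

/-- the index set of the kernel elements at a stage -/
abbrev Stage.KIdx (s : Stage F) : Type v :=
  Σ m : ι × ℤ, {a : Ebar E m ⟶ s.X // F.map a s.ξ = 0}

/-- the coproduct of the sources of the kernel elements -/
noncomputable abbrev Stage.S (s : Stage F) : D := ∐ (fun k : s.KIdx E => Ebar E k.1)

/-- the tautological map -/
noncomputable def Stage.σ (s : Stage F) : s.S E ⟶ s.X := Sigma.desc (fun k => k.2.1)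

lemma Stage.ι_σ (s : Stage F) (k : s.KIdx E) :
    Sigma.ι (fun k : s.KIdx E => Ebar E k.1) k ≫ s.σ E = k.2.1 := by
  simp [Stage.σ]

lemma Stage.map_σ (s : Stage F) : F.map (s.σ E) s.ξ = 0 := by
  apply F.prod_inj (fun k : s.KIdx E => Ebar E k.1)
  intro k
  have h1 := F.map_comp (Sigma.ι (fun k : s.KIdx E => Ebar E k.1) k) (s.σ E) s.ξ
  rw [s.ι_σ E k] at h1
  rw [← h1, map_zero]
  exact k.2.2

lemma Stage.exists_next (s : Stage F) : ∃ (X' : D) (φ : s.X ⟶ X') (ξ' : F.obj X'),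
    F.map φ ξ' = s.ξ ∧ s.σ E ≫ φ = 0 ∧
      ∃ (h : X' ⟶ (s.S E)⟦(1 : ℤ)⟧), Triangle.mk (s.σ E) φ h ∈ distTriang D := by
  obtain ⟨X', φ, h, hT⟩ := distinguished_cocone_triangle (s.σ E)
  obtain ⟨ξ', hξ'⟩ := F.exact _ hT s.ξ (s.map_σ E)
  exact ⟨X', φ, ξ', hξ', comp_distTriang_mor_zero₁₂ _ hT, h, hT⟩

/-- the next stage -/
noncomputable def Stage.next (s : Stage F) : Stage F :=
  ⟨(s.exists_next E).choose, (s.exists_next E).choose_spec.choose_spec.choose⟩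

/-- the transition map -/
noncomputable def Stage.φ (s : Stage F) : s.X ⟶ (s.next E).X :=
  (s.exists_next E).choose_spec.choose

lemma Stage.map_φ (s : Stage F) : F.map (s.φ E) (s.next E).ξ = s.ξ :=
  (s.exists_next E).choose_spec.choose_spec.choose_spec.1

lemma Stage.σ_φ (s : Stage F) : s.σ E ≫ s.φ E = 0 :=
  (s.exists_next E).choose_spec.choose_spec.choose_spec.2.1

lemma Stage.triangle (s : Stage F) :
    ∃ (h : (s.next E).X ⟶ (s.S E)⟦(1 : ℤ)⟧), Triangle.mk (s.σ E) (s.φ E) h ∈ distTriang D :=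
  (s.exists_next E).choose_spec.choose_spec.choose_spec.2.2

lemma Stage.kill (s : Stage F) {G : D} (hG : IsMem E G) (a : G ⟶ s.X)
    (ha : F.map a s.ξ = 0) : a ≫ s.φ E = 0 := by
  obtain ⟨i, n, ⟨e⟩⟩ := hG
  have ha' : F.map (e.inv ≫ a) s.ξ = 0 := by rw [F.map_comp, ha, map_zero]
  let k : s.KIdx E := ⟨(i, n), ⟨e.inv ≫ a, ha'⟩⟩
  have h0 : (e.inv ≫ a) ≫ s.φ E = 0 := by
    have this : Sigma.ι (fun k : s.KIdx E => Ebar E k.1) k ≫ s.σ E = e.inv ≫ a := s.ι_σ E k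
    rw [← this, Category.assoc, s.σ_φ, comp_zero]
  calc a ≫ s.φ E = e.hom ≫ (e.inv ≫ a) ≫ s.φ E := by simp
    _ = 0 := by rw [h0, comp_zero]

/-- closure properties of a "localizing" class of objects -/
structure IsLoc (L : D → Prop) : Prop where
  iso : ∀ {A B : D}, (A ≅ B) → L A → L B
  coprod : ∀ {κ : Type v} (Y : κ → D), (∀ k, L (Y k)) → L (∐ Y)
  coprod_nat : ∀ (Y : ℕ → D), (∀ k, L (Y k)) → L (∐ Y)
  cone : ∀ (T : Triangle D), T ∈ distTriang D → L T.obj₁ → L T.obj₂ → L T.obj₃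

lemma Stage.next_loc (s : Stage F) {L : D → Prop} (hL : IsLoc L)
    (hmem : ∀ G, IsMem E G → L G) (hs : L s.X) : L (s.next E).X := by
  obtain ⟨h, hT⟩ := s.triangle E
  exact hL.cone _ hT (hL.coprod _ (fun k => hmem _ (isMem_Ebar E k.1))) hs

variable (F)

/-- the zeroth stage -/
noncomputable def Stage.zero : Stage F :=
  ⟨∐ (fun k : (Σ m : ι × ℤ, F.obj (Ebar E m)) => Ebar E k.1),
    (F.prod_surj (fun k : (Σ m : ι × ℤ, F.obj (Ebar E m)) => Ebar E k.1) (fun k => k.2)).choose⟩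

lemma Stage.zero_spec (k : Σ m : ι × ℤ, F.obj (Ebar E m)) :
    F.map (Sigma.ι (fun k : (Σ m : ι × ℤ, F.obj (Ebar E m)) => Ebar E k.1) k)
      (Stage.zero E F).ξ = k.2 :=
  (F.prod_surj (fun k : (Σ m : ι × ℤ, F.obj (Ebar E m)) => Ebar E k.1)
    (fun k => k.2)).choose_spec k

lemma Stage.zero_full {G : D} (hG : IsMem E G) (x : F.obj G) :
    ∃ a : G ⟶ (Stage.zero E F).X, F.map a (Stage.zero E F).ξ = x := by
  obtain ⟨i, n, ⟨e⟩⟩ := hG
  let k : Σ m : ι × ℤ, F.obj (Ebar E m) := ⟨(i, n), F.map e.inv x⟩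
  let j : (E i)⟦n⟧ ⟶ (Stage.zero E F).X :=
    Sigma.ι (fun k : (Σ m : ι × ℤ, F.obj (Ebar E m)) => Ebar E k.1) k
  have hj : F.map j (Stage.zero E F).ξ = F.map e.inv x := Stage.zero_spec E F k
  refine ⟨e.hom ≫ j, ?_⟩
  rw [F.map_comp, hj, ← F.map_comp, e.hom_inv_id, F.map_id]

lemma Stage.zero_loc {L : D → Prop} (hL : IsLoc L) (hmem : ∀ G, IsMem E G → L G) :
    L (Stage.zero E F).X :=
  hL.coprod _ (fun k => hmem _ (isMem_Ebar E k.1))

/-- the tower -/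
noncomputable def tower : ℕ → Stage F
  | 0 => Stage.zero E F
  | (n + 1) => (tower n).next E

/-- the objects of the tower -/
noncomputable abbrev TX (n : ℕ) : D := (tower E F n).X

/-- the elements of the tower -/
noncomputable abbrev Tξ (n : ℕ) : F.obj (TX E F n) := (tower E F n).ξ

/-- the transition maps of the tower -/
noncomputable def Tφ (n : ℕ) : TX E F n ⟶ TX E F (n + 1) := (tower E F n).φ E

lemma map_Tφ (n : ℕ) : F.map (Tφ E F n) (Tξ E F (n + 1)) = Tξ E F n := (tower E F n).map_φ E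

lemma map_iter (n : ℕ) : F.map (iter (TX E F) (Tφ E F) n) (Tξ E F n) = Tξ E F 0 := by
  induction n with
  | zero => simp [iter, F.map_id]
  | succ n ih => rw [iter_succ, F.map_comp, map_Tφ, ih]

lemma TX_loc {L : D → Prop} (hL : IsLoc L) (hmem : ∀ G, IsMem E G → L G) (n : ℕ) :
    L (TX E F n) := by
  induction n with
  | zero => exact Stage.zero_loc E F hL hmem
  | succ n ih => exact (tower E F n).next_loc E hL hmem ih

variable {E}

lemma K1 {U : D} (hU : IsMem E U) (n : ℕ) (b : U ⟶ TX E F n) :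
    ∃ c : U ⟶ TX E F 0, F.map c (Tξ E F 0) = F.map b (Tξ E F n) :=
  Stage.zero_full E F hU _

lemma K2 {U : D} (hU : IsMem E U) (n : ℕ) (a : U ⟶ TX E F n)
    (ha : F.map a (Tξ E F n) = 0) : a ≫ Tφ E F n = 0 :=
  (tower E F n).kill E hU a ha

lemma K3 {U : D} (hU : IsMem E U) (n : ℕ) (b : U ⟶ TX E F n) (c : U ⟶ TX E F 0)
    (h : F.map c (Tξ E F 0) = F.map b (Tξ E F n)) :
    b ≫ Tφ E F n = c ≫ iter (TX E F) (Tφ E F) (n + 1) := by
  have : (b - c ≫ iter (TX E F) (Tφ E F) n) ≫ Tφ E F n = 0 :=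
    K2 F hU n _ (by rw [F.map_sub_left, F.map_comp, map_iter, h, sub_self])
  rw [Preadditive.sub_comp, sub_eq_zero] at this
  rw [this, iter_succ, Category.assoc]

lemma K4 {U : D} (k : U ⟶ TX E F 0) (hk : k ≫ Tφ E F 0 = 0) (j : ℕ) :
    k ≫ iter (TX E F) (Tφ E F) (j + 1) = 0 := by
  induction j with
  | zero => rw [iter_succ]; simp [iter, hk]
  | succ j ih => rw [iter_succ, ← Category.assoc, ih, zero_comp]

end Tower


section Hocolim

variable {ι : Type v} {E : ι → D} (F : CF D)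

local notation "𝕏" => TX E F
local notation "𝕗" => Tφ E F

variable (E) in
lemma exists_hocolim : ∃ (X : D) (π : (∐ 𝕏) ⟶ X) (δ : X ⟶ (∐ 𝕏)⟦(1 : ℤ)⟧) (ξ : F.obj X),
    Triangle.mk (θ 𝕏 𝕗) π δ ∈ distTriang D ∧
      ∀ n, F.map (Sigma.ι 𝕏 n ≫ π) ξ = Tξ E F n := by
  obtain ⟨X, π, δ, hT⟩ := distinguished_cocone_triangle (θ 𝕏 𝕗)
  obtain ⟨ξs, hξs⟩ := F.prod_surj_nat 𝕏 (Tξ E F)
  have h0 : F.map (θ 𝕏 𝕗) ξs = 0 := by
    apply F.prod_inj_nat 𝕏
    intro n
    rw [← F.map_comp, map_zero, ι_θ, F.map_sub_left, F.map_comp, hξs, hξs, map_Tφ, sub_self]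
  obtain ⟨ξ, hξ⟩ := F.exact _ hT ξs h0
  exact ⟨X, π, δ, ξ, hT, fun n => by rw [F.map_comp]; erw [hξ]; rw [hξs]⟩

lemma decomp (h2 : Perfect E) {G : D} (hG : IsMem E G) (β : G ⟶ ∐ 𝕏) :
    ∃ (β' : G ⟶ ∐ 𝕏) (a : G ⟶ 𝕏 0), β = β' ≫ θ 𝕏 𝕗 + a ≫ Sigma.ι 𝕏 0 := by
  obtain ⟨U, hU, b, γ, rfl⟩ := factor_mem h2 hG 𝕏 β
  choose c hc using fun n => K1 F (hU n) n (b n)
  have hd : ∀ n, (b n - c n ≫ iter 𝕏 𝕗 n) ≫ 𝕗 n = 0 := fun n =>
    K2 F (hU n) n _ (by rw [F.map_sub_left, F.map_comp, map_iter, hc, sub_self])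
  let ψ : (∐ U) ⟶ ∐ 𝕏 :=
    Sigma.desc (fun n => (b n - c n ≫ iter 𝕏 𝕗 n) ≫ Sigma.ι 𝕏 n - c n ≫ τ 𝕏 𝕗 n)
  let cbar : (∐ U) ⟶ 𝕏 0 := Sigma.desc c
  have key : Limits.Sigma.map b = ψ ≫ θ 𝕏 𝕗 + cbar ≫ Sigma.ι 𝕏 0 := by
    apply Sigma.hom_ext
    intro n
    have hψ : Sigma.ι U n ≫ ψ =
        (b n - c n ≫ iter 𝕏 𝕗 n) ≫ Sigma.ι 𝕏 n - c n ≫ τ 𝕏 𝕗 n := Sigma.ι_desc _ _
    have hcbar : Sigma.ι U n ≫ cbar = c n := Sigma.ι_desc _ _
    have e1 : (b n - c n ≫ iter 𝕏 𝕗 n) ≫ Sigma.ι 𝕏 n ≫ θ 𝕏 𝕗 =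
        (b n - c n ≫ iter 𝕏 𝕗 n) ≫ Sigma.ι 𝕏 n := by
      rw [ι_θ, Preadditive.comp_sub, ← Category.assoc _ (𝕗 n), hd, zero_comp, sub_zero]
    have e2 : c n ≫ τ 𝕏 𝕗 n ≫ θ 𝕏 𝕗 =
        c n ≫ Sigma.ι 𝕏 0 - c n ≫ iter 𝕏 𝕗 n ≫ Sigma.ι 𝕏 n := by
      rw [τ_θ, Preadditive.comp_sub]
    rw [Sigma.ι_map, Preadditive.comp_add, ← Category.assoc, ← Category.assoc, hψ, hcbar,
      Preadditive.sub_comp, Category.assoc, Category.assoc, e1, e2, Preadditive.sub_comp,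
      Category.assoc]
    abel
  refine ⟨γ ≫ ψ, γ ≫ cbar, ?_⟩
  rw [key, Preadditive.comp_add, Category.assoc, Category.assoc]

lemma inj_θ (h2 : Perfect E) {G : D} (hG : IsMem E G) (β : G ⟶ ∐ 𝕏)
    (hβ : β ≫ θ 𝕏 𝕗 = 0) : β = 0 := by
  have hs : β = β ≫ sh 𝕏 𝕗 := by
    rw [θ, Preadditive.comp_sub, Category.comp_id, sub_eq_zero] at hβ
    exact hβ
  obtain ⟨U, hU, b, γ, hγ⟩ := factor_mem h2 hG 𝕏 β
  choose c hc using fun n => K1 F (hU n) n (b n)
  let ε₀ : G ⟶ ∐ cst 𝕏 := γ ≫ Sigma.desc (fun n => c n ≫ Sigma.ι (cst 𝕏) (n + 1))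
  have h3 : β ≫ sh 𝕏 𝕗 = ε₀ ≫ Φ 𝕏 𝕗 := by
    rw [hγ, Category.assoc, Category.assoc]
    congr 1
    apply Sigma.hom_ext
    intro n
    rw [Sigma.ι_map_assoc, ι_sh, Sigma.ι_desc_assoc, Category.assoc, ι_Φ, ← Category.assoc,
      ← Category.assoc]
    congr 1
    exact K3 F (hU n) n (b n) (c n) (hc n)
  have hε : (ε₀ ≫ θB 𝕏) ≫ Φ 𝕏 𝕗 = 0 := by
    rw [Category.assoc, ← Φ_θ, ← Category.assoc, ← h3, ← hs, hβ]
  obtain ⟨U', hU', k, γ', hε', hk⟩ :=
    factor_mem_zero h2 hG (cst 𝕏) 𝕏 (fun n => iter 𝕏 𝕗 n) (ε₀ ≫ θB 𝕏) hε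
  have hk0 : ∀ n, k n ≫ 𝕗 0 = 0 := fun n => K2 F (hU' n) 0 (k n) (by
    rw [← map_iter E F n, ← F.map_comp, hk n, F.map_zero_left])
  have hk1 : ∀ n j, k n ≫ iter 𝕏 𝕗 (j + 1) = 0 := fun n j => K4 F (k n) (hk0 n) j
  have h6 : β = γ' ≫ Limits.Sigma.map k ≫ R 𝕏 𝕗 := by
    rw [hs, h3, ← θB_R, ← Category.assoc, hε', Category.assoc]
  have h7 : (Limits.Sigma.map k ≫ R 𝕏 𝕗) ≫ sh 𝕏 𝕗 = 0 := by
    apply Sigma.hom_ext
    intro n
    rw [comp_zero, Category.assoc, Sigma.ι_map_assoc, ι_R_assoc, Preadditive.neg_comp,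
      Preadditive.comp_neg, τ_sh_zero 𝕏 𝕗 (k n) (hk1 n) n, neg_zero]
  rw [hs, h6, Category.assoc, Category.assoc, ← Category.assoc (Limits.Sigma.map k), h7,
    comp_zero]

lemma mem_inj (h2 : Perfect E) {X : D} {π : (∐ 𝕏) ⟶ X} {δ : X ⟶ (∐ 𝕏)⟦(1 : ℤ)⟧}
    {ξ : F.obj X} (hT : Triangle.mk (θ 𝕏 𝕗) π δ ∈ distTriang D)
    (hξ : ∀ n, F.map (Sigma.ι 𝕏 n ≫ π) ξ = Tξ E F n) {G : D} (hG : IsMem E G)
    (α : G ⟶ X) (hα : F.map α ξ = 0) : α = 0 := by
  have h1 : α ≫ δ = 0 := by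
    let κ := shiftNegShift G (1 : ℤ)
    let β := (shiftFunctor D (1 : ℤ)).preimage (κ.hom ≫ α ≫ δ)
    have hβ : (shiftFunctor D (1 : ℤ)).map β = κ.hom ≫ α ≫ δ := Functor.map_preimage _ _
    have hβθ : β ≫ θ 𝕏 𝕗 = 0 := by
      apply (shiftFunctor D (1 : ℤ)).map_injective
      rw [Functor.map_comp, hβ, Functor.map_zero, Category.assoc, Category.assoc]
      have : δ ≫ (shiftFunctor D (1 : ℤ)).map (θ 𝕏 𝕗) = 0 := comp_distTriang_mor_zero₃₁ _ hT
      rw [this, comp_zero, comp_zero]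
    have hβ0 := inj_θ F h2 (isMem_shift E hG (-1)) β hβθ
    rw [hβ0, Functor.map_zero] at hβ
    exact (cancel_epi κ.hom).1 (by rw [← hβ, comp_zero])
  obtain ⟨β, hβ⟩ : ∃ β : G ⟶ ∐ 𝕏, α = β ≫ π := Triangle.coyoneda_exact₃ _ hT α h1
  obtain ⟨β', a, hdec⟩ := decomp F h2 hG β
  have hθπ : θ 𝕏 𝕗 ≫ π = 0 := comp_distTriang_mor_zero₁₂ _ hT
  have hα' : α = a ≫ Sigma.ι 𝕏 0 ≫ π := by
    rw [hβ, hdec, Preadditive.add_comp, Category.assoc, hθπ, comp_zero, zero_add,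
      Category.assoc]
  have ha : F.map a (Tξ E F 0) = 0 := by
    rw [← hξ 0, ← F.map_comp, ← hα', hα]
  have ha0 : a ≫ 𝕗 0 = 0 := K2 F hG 0 a ha
  have : a ≫ Sigma.ι 𝕏 0 = (a ≫ Sigma.ι 𝕏 0) ≫ θ 𝕏 𝕗 := by
    rw [Category.assoc, ι_θ, Preadditive.comp_sub, ← Category.assoc a, ha0, zero_comp, sub_zero]
  rw [hα', ← Category.assoc, this, Category.assoc, hθπ, comp_zero]

lemma mem_surj {X : D} {π : (∐ 𝕏) ⟶ X} {ξ : F.obj X}
    (hξ : ∀ n, F.map (Sigma.ι 𝕏 n ≫ π) ξ = Tξ E F n) {G : D} (hG : IsMem E G)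
    (x : F.obj G) : ∃ a : G ⟶ X, F.map a ξ = x := by
  obtain ⟨a₀, ha₀⟩ := Stage.zero_full E F hG x
  let a₁ : G ⟶ 𝕏 0 := a₀
  refine ⟨a₁ ≫ Sigma.ι 𝕏 0 ≫ π, ?_⟩
  rw [F.map_comp, hξ 0]
  exact ha₀

theorem tower_result (h2 : Perfect E) (F : CF D) :
    ∃ (X : D) (ξ : F.obj X),
      (∀ G, IsMem E G → Function.Bijective (fun a : G ⟶ X => F.map a ξ)) ∧
      (∀ L : D → Prop, IsLoc L → (∀ G, IsMem E G → L G) → L X) := by
  obtain ⟨X, π, δ, ξ, hT, hξ⟩ := exists_hocolim E F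
  refine ⟨X, ξ, fun G hG => ⟨?_, ?_⟩, ?_⟩
  · intro a a' h
    have : F.map (a - a') ξ = 0 := by
      rw [F.map_sub_left]
      exact sub_eq_zero.mpr h
    exact sub_eq_zero.mp (mem_inj F h2 hT hξ hG _ this)
  · intro x
    exact mem_surj F hξ hG x
  · intro L hL hmem
    exact hL.cone _ hT (hL.coprod_nat _ (TX_loc E F hL hmem))
      (hL.coprod_nat _ (TX_loc E F hL hmem))

end Hocolim


section Representability

variable {ι : Type v} {E : ι → D} (F : CF D) {X : D} (ξ : F.obj X)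

/-- the comparison map `Hom(Y, X) → F Y` attached to an element `ξ ∈ F X` -/
def eta (Y : D) : (Y ⟶ X) → F.obj Y := fun a => F.map a ξ

lemma bij_of_iso {Y Y' : D} (e : Y' ≅ Y) (h : Function.Bijective (eta F ξ Y)) :
    Function.Bijective (eta F ξ Y') := by
  constructor
  · intro a a' haa
    have : eta F ξ Y (e.inv ≫ a) = eta F ξ Y (e.inv ≫ a') := by
      simp only [eta] at haa ⊢
      rw [F.map_comp, F.map_comp, haa]
    exact (cancel_epi e.inv).1 (h.1 this)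
  · intro x
    obtain ⟨b, hb⟩ := h.2 (F.map e.inv x)
    refine ⟨e.hom ≫ b, ?_⟩
    simp only [eta] at hb ⊢
    rw [F.map_comp, hb, ← F.map_comp, e.hom_inv_id, F.map_id]

lemma bij_coprod {κ : Type*} (Y : κ → D) [HasCoproduct Y]
    (hinj : ∀ x y : F.obj (∐ Y), (∀ k, F.map (Sigma.ι Y k) x = F.map (Sigma.ι Y k) y) → x = y)
    (h : ∀ k, Function.Bijective (eta F ξ (Y k))) : Function.Bijective (eta F ξ (∐ Y)) := by
  constructor
  · intro a a' haa
    apply Sigma.hom_ext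
    intro k
    apply (h k).1
    simp only [eta] at haa ⊢
    rw [F.map_comp, F.map_comp, haa]
  · intro x
    choose a ha using fun k => (h k).2 (F.map (Sigma.ι Y k) x)
    refine ⟨Sigma.desc a, ?_⟩
    apply hinj
    intro k
    simp only [eta] at ha ⊢
    rw [← F.map_comp, Sigma.ι_desc, ha]

lemma bij_cone (T : Triangle D) (hT : T ∈ distTriang D)
    (h1 : Function.Bijective (eta F ξ T.obj₁)) (h2 : Function.Bijective (eta F ξ T.obj₂))
    (h1' : Function.Bijective (eta F ξ (T.obj₁⟦(1 : ℤ)⟧)))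
    (h2' : Function.Bijective (eta F ξ (T.obj₂⟦(1 : ℤ)⟧))) :
    Function.Bijective (eta F ξ T.obj₃) := by
  have hR := rot_of_distTriang _ hT
  have hRR := rot_of_distTriang _ hR
  have ex1 : ∀ x : F.obj T.obj₃, F.map T.mor₂ x = 0 →
      ∃ y : F.obj (T.obj₁⟦(1 : ℤ)⟧), F.map T.mor₃ y = x := fun x hx => F.exact _ hR x hx
  have ex2 : ∀ x : F.obj (T.obj₁⟦(1 : ℤ)⟧), F.map T.mor₃ x = 0 →
      ∃ y : F.obj (T.obj₂⟦(1 : ℤ)⟧), F.map (-(shiftFunctor D (1 : ℤ)).map T.mor₁) y = x :=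
    fun x hx => F.exact _ hRR x hx
  have hz : T.mor₃ ≫ (-(shiftFunctor D (1 : ℤ)).map T.mor₁) = 0 :=
    comp_distTriang_mor_zero₂₃ _ hR
  constructor
  · -- injectivity
    intro c c' hcc
    simp only [eta] at hcc
    have hd : F.map (c - c') ξ = 0 := by rw [F.map_sub_left, hcc, sub_self]
    have hgd : T.mor₂ ≫ (c - c') = 0 := by
      apply h2.1
      simp only [eta]
      rw [F.map_comp, hd, map_zero, F.map_zero_left]
    obtain ⟨d', hd'⟩ := Triangle.yoneda_exact₃ _ hT (c - c') hgd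
    have hx : F.map T.mor₃ (F.map d' ξ) = 0 := by rw [← F.map_comp, ← hd', hd]
    obtain ⟨y, hy⟩ := ex2 _ hx
    obtain ⟨b', hb'⟩ := h2'.2 y
    simp only [eta] at hb'
    have hd'' : (-(shiftFunctor D (1 : ℤ)).map T.mor₁) ≫ b' = d' := by
      apply h1'.1
      simp only [eta]
      rw [F.map_comp, hb', hy]
    have : c - c' = 0 := by
      rw [hd', ← hd'', ← Category.assoc, hz, zero_comp]
    exact sub_eq_zero.mp this
  · -- surjectivity
    intro z
    obtain ⟨b, hb⟩ := h2.2 (F.map T.mor₂ z)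
    simp only [eta] at hb
    have hfb : T.mor₁ ≫ b = 0 := by
      apply h1.1
      simp only [eta]
      rw [F.map_comp, hb, ← F.map_comp, comp_distTriang_mor_zero₁₂ _ hT, F.map_zero_left,
        F.map_zero_left]
    obtain ⟨c₀, hc₀⟩ := Triangle.yoneda_exact₂ _ hT b hfb
    have hz' : F.map T.mor₂ (z - F.map c₀ ξ) = 0 := by
      rw [map_sub, ← F.map_comp, ← hc₀, hb, sub_self]
    obtain ⟨w, hw⟩ := ex1 _ hz'
    obtain ⟨a', ha'⟩ := h1'.2 w
    simp only [eta] at ha'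
    refine ⟨c₀ + T.mor₃ ≫ a', ?_⟩
    simp only [eta]
    rw [F.map_add, F.map_comp, ha', hw]
    abel

/-- the class of objects all of whose shifts satisfy the representability condition -/
def LL : D → Prop := fun Y => ∀ n : ℤ, Function.Bijective (eta F ξ (Y⟦n⟧))

lemma isLoc_LL : IsLoc (LL F ξ) where
  iso := by
    intro A B e hA n
    exact bij_of_iso F ξ ((shiftFunctor D n).mapIso e.symm) (hA n)
  coprod := by
    intro κ Y hY n
    refine bij_of_iso F ξ (PreservesCoproduct.iso (shiftFunctor D n) Y) ?_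
    exact bij_coprod F ξ _ (F.prod_inj _) (fun k => hY k n)
  coprod_nat := by
    intro Y hY n
    refine bij_of_iso F ξ (PreservesCoproduct.iso (shiftFunctor D n) Y) ?_
    exact bij_coprod F ξ _ (F.prod_inj_nat _) (fun k => hY k n)
  cone := by
    intro T hT hA hB n
    have hTn := Triangle.shift_distinguished T hT n
    refine bij_cone F ξ _ hTn (hA n) (hB n) ?_ ?_
    · exact bij_of_iso F ξ ((shiftFunctorAdd' D n 1 (n + 1) rfl).app T.obj₁).symm (hA (n + 1))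
    · exact bij_of_iso F ξ ((shiftFunctorAdd' D n 1 (n + 1) rfl).app T.obj₂).symm (hB (n + 1))

/-- `Hom(-, Y)` as an elementwise cohomological functor -/
def homCF (Y : D) : CF D where
  obj A := (A ⟶ Y)
  map f :=
    { toFun := fun g => f ≫ g
      map_zero' := comp_zero
      map_add' := fun _ _ => Preadditive.comp_add _ _ _ _ _ _ }
  map_id A x := Category.id_comp x
  map_comp f g x := Category.assoc f g x
  map_add f g x := Preadditive.add_comp _ _ _ _ _ _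
  exact T hT x hx := by
    obtain ⟨y, hy⟩ := Triangle.yoneda_exact₂ T hT x hx
    exact ⟨y, hy.symm⟩
  prod_inj Y x y h := Sigma.hom_ext _ _ h
  prod_surj Y z := ⟨Sigma.desc z, fun k => Sigma.ι_desc _ _⟩
  prod_inj_nat Y x y h := Sigma.hom_ext _ _ h
  prod_surj_nat Y z := ⟨Sigma.desc z, fun k => Sigma.ι_desc _ _⟩

/-- Brown representability for perfectly generated triangulated categories, elementwise form
(the generation hypothesis is stated with members, i.e. objects isomorphic to shifts of the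
`E i`). -/
theorem representable' (h1 : ∀ X : D, ¬ IsZero X → ∃ (G : D) (_ : IsMem E G) (f : G ⟶ X), f ≠ 0)
    (h2 : Perfect E) (F : CF D) :
    ∃ (X : D) (ξ : F.obj X), ∀ Y : D, Function.Bijective (fun a : Y ⟶ X => F.map a ξ) := by
  obtain ⟨X, ξ, hbij, -⟩ := tower_result h2 F
  refine ⟨X, ξ, ?_⟩
  have hLoc : IsLoc (LL F ξ) := isLoc_LL F ξ
  have hmem : ∀ G, IsMem E G → LL F ξ G := fun G hG n => hbij _ (isMem_shift E hG n)
  intro Y
  obtain ⟨X', u, hbij', hloc'⟩ := tower_result h2 (homCF Y)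
  have hX' : LL F ξ X' := hloc' _ hLoc hmem
  have hu : ∀ {G : D} (a : G ⟶ X'), (homCF Y).map a u = a ≫ u := fun a => rfl
  obtain ⟨Z, g, h, hT⟩ := distinguished_cocone_triangle (u : X' ⟶ Y)
  have hZ : IsZero Z := by
    by_contra hZ
    obtain ⟨G, hG, z, hz⟩ := h1 Z hZ
    apply hz
    have hzh : z ≫ h = 0 := by
      let κ := shiftNegShift G (1 : ℤ)
      let b' := (shiftFunctor D (1 : ℤ)).preimage (κ.hom ≫ z ≫ h)
      have hb' : (shiftFunctor D (1 : ℤ)).map b' = κ.hom ≫ z ≫ h := Functor.map_preimage _ _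
      have hb'u : b' ≫ (u : X' ⟶ Y) = 0 := by
        apply (shiftFunctor D (1 : ℤ)).map_injective
        rw [Functor.map_comp, hb', Functor.map_zero, Category.assoc, Category.assoc]
        have : h ≫ (shiftFunctor D (1 : ℤ)).map (u : X' ⟶ Y) = 0 :=
          comp_distTriang_mor_zero₃₁ _ hT
        rw [this, comp_zero, comp_zero]
      have hb'0 : b' = 0 := by
        apply (hbij' _ (isMem_shift E hG (-1))).1
        show (homCF Y).map b' u = (homCF Y).map 0 u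
        rw [hu, hu, hb'u, zero_comp]
      rw [hb'0, Functor.map_zero] at hb'
      exact (cancel_epi κ.hom).1 (by rw [← hb', comp_zero])
    obtain ⟨y, hy⟩ : ∃ y : G ⟶ Y, z = y ≫ g := Triangle.coyoneda_exact₃ _ hT z hzh
    obtain ⟨x, hx⟩ := (hbij' _ hG).2 y
    have hx' : x ≫ (u : X' ⟶ Y) = y := hx
    have hug : (u : X' ⟶ Y) ≫ g = 0 := comp_distTriang_mor_zero₁₂ _ hT
    rw [hy, ← hx', Category.assoc, hug, comp_zero]
  have hiso : IsIso (u : X' ⟶ Y) := (Triangle.isZero₃_iff_isIso₁ _ hT).1 hZ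
  have hY : LL F ξ Y := hLoc.iso (asIso (u : X' ⟶ Y)) hX'
  exact bij_of_iso F ξ ((shiftFunctorZero D ℤ).app Y).symm (hY 0)

/-- Brown representability for perfectly generated triangulated categories, elementwise form. -/
theorem representable (h1 : ∀ X : D, ¬ IsZero X → ∃ (i : ι) (f : E i ⟶ X), f ≠ 0)
    (h2 : Perfect E) (F : CF D) :
    ∃ (X : D) (ξ : F.obj X), ∀ Y : D, Function.Bijective (fun a : Y ⟶ X => F.map a ξ) := by
  refine representable' (E := E) (fun X hX => ?_) h2 F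
  obtain ⟨i, f, hf⟩ := h1 X hX
  exact ⟨E i, isMem_E E i, f, hf⟩

/-- the generation hypothesis in terms of shifts of the target implies the one with members -/
lemma mem_detect_of_generates
    (hgen : ∀ K : D, (∀ (i : ι) (n : ℤ) (f : E i ⟶ K⟦n⟧), f = 0) → IsZero K) :
    ∀ X : D, ¬ IsZero X → ∃ (G : D) (_ : IsMem E G) (f : G ⟶ X), f ≠ 0 := by
  intro X hX
  by_contra hcon
  apply hX
  apply hgen
  intro i n f
  by_contra hf
  apply hcon
  refine ⟨(E i)⟦-n⟧, isMem_shiftE E i (-n),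
    (shiftFunctor D (-n)).map f ≫ (shiftShiftNeg X n).hom, ?_⟩
  intro h0
  apply hf
  have h1 : (shiftFunctor D (-n)).map f = 0 := by
    have := h0 =≫ (shiftShiftNeg X n).inv
    rw [Category.assoc, Iso.hom_inv_id, Category.comp_id, zero_comp] at this
    exact this
  exact (shiftFunctor D (-n)).map_injective (by rw [h1, Functor.map_zero])

end Representability

end Groth.Agent.H5.Brown
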