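import Groth.Agent.H5.Brown
import Mathlib.CategoryTheory.Limits.Shapes.Opposites.Products
import Mathlib.CategoryTheory.Triangulated.Opposite.Pretriangulated
import Mathlib.CategoryTheory.Triangulated.HomologicalFunctor
import Mathlib.Algebra.Category.Grp.Limits
import Mathlib.Algebra.Homology.ShortComplex.Ab

/-!
# Brown representability: from functors `Dᵒᵖ ⥤ Ab` to the elementwise form
-/

set_option autoImplicit false
set_option linter.unusedSectionVars false

universe w v u

open CategoryTheory CategoryTheory.Limits Opposite CategoryTheory.Pretriangulated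
open CategoryTheory.Pretriangulated.Opposite

namespace Groth.Agent.H5.Brown

section

variable {D : Type u} [Category.{v} D] (H : Dᵒᵖ ⥤ AddCommGrpCat.{v})

lemma prod_inj_aux {κ : Type w} [Small.{v} κ] [PreservesLimitsOfShape (Discrete κ) H]
    (Y : κ → D) [HasCoproduct Y] (x y : H.obj (op (∐ Y)))
    (h : ∀ k, (H.map (Sigma.ι Y k).op).hom x = (H.map (Sigma.ι Y k).op).hom y) : x = y := by
  let c : Cofan Y := Cofan.mk (∐ Y) (Sigma.ι Y)
  have hc : IsColimit c := coproductIsCoproduct Y
  have hlim : IsLimit (H.mapCone (Cofan.op c)) := isLimitOfPreserves H (Cofan.IsColimit.op hc)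
  refine Concrete.isLimit_ext _ hlim x y ?_
  rintro ⟨k⟩
  exact h k

lemma prod_surj_aux {κ : Type w} [Small.{v} κ] [PreservesLimitsOfShape (Discrete κ) H]
    (Y : κ → D) [HasCoproduct Y] (z : ∀ k, H.obj (op (Y k))) :
    ∃ x : H.obj (op (∐ Y)), ∀ k, (H.map (Sigma.ι Y k).op).hom x = z k := by
  let c : Cofan Y := Cofan.mk (∐ Y) (Sigma.ι Y)
  have hc : IsColimit c := coproductIsCoproduct Y
  have hlim : IsLimit (H.mapCone (Cofan.op c)) := isLimitOfPreserves H (Cofan.IsColimit.op hc)
  have hlimT := isLimitOfPreserves (forget AddCommGrpCat.{v}) hlim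
  let s : ((Discrete.functor (fun k => op (Y k)) ⋙ H) ⋙ forget AddCommGrpCat.{v}).sections :=
    ⟨fun j => z j.as, by
      intro j j' f
      obtain rfl : j = j' := Discrete.ext (Discrete.eq_of_hom f)
      have : f = 𝟙 j := Subsingleton.elim _ _
      subst this
      simp⟩
  refine ⟨(Types.isLimitEquivSections hlimT).symm s, fun k => ?_⟩
  exact Types.isLimitEquivSections_symm_apply hlimT s ⟨k⟩

end

variable {D : Type u} [Category.{v} D] [Preadditive D] [HasZeroObject D] [HasShift D ℤ]
  [∀ n : ℤ, (shiftFunctor D n).Additive] [Pretriangulated D]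
  [HasCoproducts.{v} D] [HasColimitsOfShape (Discrete ℕ) D]

/-- the elementwise cohomological functor attached to a homological functor `Dᵒᵖ ⥤ Ab`
preserving products -/
noncomputable def cfOfFunctor (H : Dᵒᵖ ⥤ AddCommGrpCat.{v}) [H.IsHomological]
    [∀ (κ : Type v), PreservesLimitsOfShape (Discrete κ) H] : CF D where
  obj A := H.obj (op A)
  map f := (H.map f.op).hom
  map_id A x := by simp
  map_comp f g x := by simp
  map_add f g x := by
    rw [op_add, H.map_add]
    rfl
  exact T hT x hx := by
    have := H.map_distinguished_op_exact T hT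
    rw [ShortComplex.ab_exact_iff] at this
    exact this x hx
  prod_inj Y x y h := prod_inj_aux H Y x y h
  prod_surj Y z := prod_surj_aux H Y z
  prod_inj_nat Y x y h := by
    have : PreservesLimitsOfShape (Discrete ℕ) H :=
      preservesLimitsOfShape_of_equiv (Discrete.equivalence Equiv.ulift.{v}) H
    exact prod_inj_aux H Y x y h
  prod_surj_nat Y z := by
    have : PreservesLimitsOfShape (Discrete ℕ) H :=
      preservesLimitsOfShape_of_equiv (Discrete.equivalence Equiv.ulift.{v}) H
    exact prod_surj_aux H Y z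

/-- Brown representability (Krause's perfectly generated version) for functors. -/
theorem isRepresentable_of_perfect {ι : Type v} (E : ι → D)
    (h1 : ∀ X : D, ¬ IsZero X → ∃ (i : ι) (f : E i ⟶ X), f ≠ 0)
    (h2 : ∀ (X : ℕ → D) (i : ι) (α : E i ⟶ ∐ X), ∃ (j : ℕ → ι) (β : ∀ n, E (j n) ⟶ X n)
      (γ : E i ⟶ ∐ (fun n => E (j n))), α = γ ≫ Limits.Sigma.map β)
    (H : Dᵒᵖ ⥤ AddCommGrpCat.{v}) [H.IsHomological]
    [∀ (κ : Type v), PreservesLimitsOfShape (Discrete κ) H] :
    (H ⋙ forget AddCommGrpCat.{v}).IsRepresentable := by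
  obtain ⟨X, ξ, hb⟩ := representable (E := E) h1 h2 (cfOfFunctor H)
  exact ⟨X, ⟨{ homEquiv := fun {Y} => Equiv.ofBijective _ (hb Y)
               homEquiv_comp := fun {Y Y'} f g => by
                 simp only [Equiv.ofBijective_apply]
                 exact (cfOfFunctor H).map_comp f g ξ }⟩⟩


/-- Brown representability (Krause's perfectly generated version) for functors, with the
generation hypothesis stated using shifts of the target. -/
theorem isRepresentable_of_generates_perfect {ι : Type v} (E : ι → D)
    (hgen : ∀ K : D, (∀ (i : ι) (n : ℤ) (f : E i ⟶ K⟦n⟧), f = 0) → IsZero K)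
    (h2 : Perfect E)
    (H : Dᵒᵖ ⥤ AddCommGrpCat.{v}) [H.IsHomological]
    [∀ (κ : Type v), PreservesLimitsOfShape (Discrete κ) H] :
    (H ⋙ forget AddCommGrpCat.{v}).IsRepresentable := by
  obtain ⟨X, ξ, hb⟩ := representable' (E := E) (mem_detect_of_generates hgen) h2 (cfOfFunctor H)
  exact ⟨X, ⟨{ homEquiv := fun {Y} => Equiv.ofBijective _ (hb Y)
               homEquiv_comp := fun {Y Y'} f g => by
                 simp only [Equiv.ofBijective_apply]
                 exact (cfOfFunctor H).map_comp f g ξ }⟩⟩

end Groth.Agent.H5.Brown
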