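import Groth.Agent.H5.KerDefs

set_option autoImplicit false
set_option linter.style.haveILetI false
universe u

namespace Groth.Agent.H5.KerCE

open CategoryTheory CategoryTheory.Limits AlgebraicGeometry Opposite
open Groth.Agent.S9528 Groth.Agent.H5.Ker

variable {A : Type u} [CommRing A] {X : Scheme.{u}} [X.Over (Spec (CommRingCat.of A))]
  (I : Ideal A)

theorem chase1 {C : Type*} [Category C] [HasZeroMorphisms C] {X0 X1 X2 X4 : C} (k : X0 ⟶ X1)
    (f : X1 ⟶ X2) (i : X2 ⟶ X4) (g : X1 ⟶ X4) (hnat : f ≫ i = g) (hk : k ≫ f = 0) :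
    k ≫ g = 0 := by
  rw [← hnat, ← Category.assoc, hk, zero_comp]

theorem chaseC {C : Type*} [Category C] [HasZeroMorphisms C] {X0 X1 X2 X3 : C} (w : X0 ⟶ X2)
    (l : X0 ⟶ X1) (k : X1 ⟶ X2) (r r' : X2 ⟶ X3) (hw : l ≫ k = w) (hr : r = r')
    (h : k ≫ r' = 0) : w ≫ r = 0 := by
  rw [← hw, hr, Category.assoc, h, comp_zero]

section Img
variable {F G : ℕᵒᵖ ⥤ X.Modules} (α : F ⟶ G) (c : ℕ)

/-- `ψ_n : N_{n+c} ⟶ F_n`. -/
noncomputable abbrev ψn (n : ℕ) : kernel (α.app (op (n + c))) ⟶ F.obj (op n) :=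
  ψ α (Nat.le_add_right n c)

theorem F_map_comp (F : ℕᵒᵖ ⥤ X.Modules) {n m k : ℕ} (h : n ≤ m) (h' : m ≤ k) :
    F.map (homOfLE h').op ≫ F.map (homOfLE h).op = F.map (homOfLE (h.trans h')).op := by
  rw [← F.map_comp]
  rfl

theorem ψ_comp_α {n m : ℕ} (h : n ≤ m) : ψ α h ≫ α.app (op n) = 0 := by
  unfold ψ
  rw [Category.assoc, α.naturality, ← Category.assoc, kernel.condition, zero_comp]

/-- `ψ` composed with a transition map. -/
theorem ψ_comp_map {n m k : ℕ} (h : n ≤ m) (h' : m ≤ k) :
    ψ α h' ≫ F.map (homOfLE h).op = ψ α (h.trans h') := by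
  unfold ψ
  rw [Category.assoc, F_map_comp]

/-- The map `N_k → N_m` for `m ≤ k`. -/
noncomputable def kN {m k : ℕ} (h : m ≤ k) :
    kernel (α.app (op k)) ⟶ kernel (α.app (op m)) :=
  kernel.map (α.app (op k)) (α.app (op m)) (F.map (homOfLE h).op) (G.map (homOfLE h).op)
    (α.naturality (homOfLE h).op).symm

theorem kN_ψ {n m k : ℕ} (h : n ≤ m) (h' : m ≤ k) :
    kN α h' ≫ ψ α h = ψ α (h.trans h') := by
  unfold kN ψ
  rw [← Category.assoc, kernel.lift_ι, Category.assoc, F_map_comp]

/-- The terms of the image system. -/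
noncomputable abbrev Eo (n : ℕ) : X.Modules := Abelian.image (ψn α c n)

theorem eT_w (n : ℕ) :
    (Abelian.image.ι (ψn α c (n + 1)) ≫ F.map (homOfLE (Nat.le_succ n)).op) ≫
      cokernel.π (ψn α c n) = 0 := by
  rw [← cancel_epi (Abelian.factorThruImage (ψn α c (n + 1))), comp_zero, ← Category.assoc,
    ← Category.assoc, Abelian.image.fac, ψ_comp_map α (Nat.le_succ n) (Nat.le_add_right (n + 1) c),
    ← kN_ψ α (Nat.le_add_right n c) (by omega : n + c ≤ n + 1 + c), Category.assoc,
    cokernel.condition, comp_zero]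

/-- The transition maps of the image system. -/
noncomputable def eT (n : ℕ) : Eo α c (n + 1) ⟶ Eo α c n :=
  kernel.lift (cokernel.π (ψn α c n))
    (Abelian.image.ι (ψn α c (n + 1)) ≫ F.map (homOfLE (Nat.le_succ n)).op) (eT_w α c n)

theorem eT_ι (n : ℕ) :
    eT α c n ≫ Abelian.image.ι (ψn α c n) =
      Abelian.image.ι (ψn α c (n + 1)) ≫ F.map (homOfLE (Nat.le_succ n)).op :=
  kernel.lift_ι _ _ _

/-- The image system. -/
noncomputable def Esys : ℕᵒᵖ ⥤ X.Modules := Functor.ofOpSequence (X := Eo α c) (eT α c)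

theorem Esys_map_succ (n : ℕ) : (Esys α c).map (homOfLE (Nat.le_succ n)).op = eT α c n :=
  Functor.ofOpSequence_map_homOfLE_succ _ n

/-- The inclusion of the image system. -/
noncomputable def Eι : Esys α c ⟶ F :=
  NatTrans.ofOpSequence (F := Esys α c) (G := F) (fun n => Abelian.image.ι (ψn α c n))
    (fun n => by
      rw [Esys_map_succ]
      exact eT_ι α c n)

theorem Eι_app (n : ℕ) : (Eι α c).app (op n) = Abelian.image.ι (ψn α c n) := rfl

/-- The transition maps are epimorphisms, given stabilisation of the images. -/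
theorem epi_eT (hstab : ∀ (n m : ℕ) (h : n + c ≤ m),
      ψ α (Nat.le_add_right n c) ≫ cokernel.π (ψ α (le_of_add_le_left h)) = 0) (n : ℕ) :
    Epi (eT α c n) := by
  apply Preadditive.epi_of_cancel_zero
  intro R g hg
  have hle : n + c ≤ n + 1 + c := by omega
  have hst := hstab n (n + 1 + c) hle
  -- `l : N_{n+c} ⟶ image ψ'`
  have hw : Abelian.image.ι (ψ α (le_of_add_le_left hle)) ≫ cokernel.π (ψn α c n) = 0 := by
    rw [← cancel_epi (Abelian.factorThruImage (ψ α (le_of_add_le_left hle))), comp_zero,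
      ← Category.assoc, Abelian.image.fac,
      ← kN_ψ α (Nat.le_add_right n c) hle, Category.assoc, cokernel.condition, comp_zero]
  -- `u : image ψ' ⟶ E_n`
  have hu : kernel.lift (cokernel.π (ψn α c n)) (Abelian.image.ι (ψ α (le_of_add_le_left hle))) hw ≫
      Abelian.image.ι (ψn α c n) = Abelian.image.ι (ψ α (le_of_add_le_left hle)) :=
    kernel.lift_ι _ _ _
  -- `p' ≫ u = p_{n+1} ≫ e_n`
  have h1 : Abelian.factorThruImage (ψ α (le_of_add_le_left hle)) ≫
      kernel.lift (cokernel.π (ψn α c n)) (Abelian.image.ι (ψ α (le_of_add_le_left hle))) hw =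
      Abelian.factorThruImage (ψn α c (n + 1)) ≫ eT α c n := by
    rw [← cancel_mono (Abelian.image.ι (ψn α c n)), Category.assoc, hu, Abelian.image.fac,
      Category.assoc, eT_ι, ← Category.assoc, Abelian.image.fac,
      ψ_comp_map α (Nat.le_succ n) (Nat.le_add_right (n + 1) c)]
  have h2 : kernel.lift (cokernel.π (ψn α c n))
      (Abelian.image.ι (ψ α (le_of_add_le_left hle))) hw ≫ g = 0 := by
    rw [← cancel_epi (Abelian.factorThruImage (ψ α (le_of_add_le_left hle))), comp_zero,
      ← Category.assoc, h1, Category.assoc, hg, comp_zero]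
  -- `p_n = l ≫ u`
  have h3 : Abelian.factorThruImage (ψn α c n) =
      kernel.lift (cokernel.π (ψ α (le_of_add_le_left hle))) (ψn α c n) hst ≫
        kernel.lift (cokernel.π (ψn α c n))
          (Abelian.image.ι (ψ α (le_of_add_le_left hle))) hw := by
    rw [← cancel_mono (Abelian.image.ι (ψn α c n)), Abelian.image.fac, Category.assoc, hu]
    exact (kernel.lift_ι _ _ _).symm
  rw [← cancel_epi (Abelian.factorThruImage (ψn α c n)), comp_zero, h3, Category.assoc, h2,
    comp_zero]

theorem epi_Esys_map (hstab : ∀ (n m : ℕ) (h : n + c ≤ m),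
      ψ α (Nat.le_add_right n c) ≫ cokernel.π (ψ α (le_of_add_le_left h)) = 0)
    {n m : ℕ} (h : n ≤ m) : Epi ((Esys α c).map (homOfLE h).op) := by
  induction m, h using Nat.le_induction with
  | base =>
    have e : (homOfLE (le_refl n)).op = 𝟙 (op n) := rfl
    have e2 : (Esys α c).map (homOfLE (le_refl n)).op = 𝟙 _ := by
      rw [e]; exact (Esys α c).map_id _
    rw [e2]
    infer_instance
  | succ m h1 ih =>
    have h2 : m ≤ m + 1 := Nat.le_succ m
    have e : (homOfLE (h1.trans h2)).op = (homOfLE h2).op ≫ (homOfLE h1).op := rfl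
    have e2 : (Esys α c).map (homOfLE (h1.trans h2)).op =
        (Esys α c).map (homOfLE h2).op ≫ (Esys α c).map (homOfLE h1).op := by
      rw [e]; exact (Esys α c).map_comp _ _
    haveI := ih
    haveI : Epi ((Esys α c).map (homOfLE h2).op) := by
      have : (Esys α c).map (homOfLE h2).op = eT α c m := Esys_map_succ α c m
      rw [this]
      exact epi_eT α c hstab m
    exact e2 ▸ epi_comp _ _

end Img

/-- (CE) the image system. -/
theorem exists_eSys [IsNoetherian X] {F G : ℕᵒᵖ ⥤ X.Modules} (hF : Formal.IsCohFormal I F)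
    (hG : Formal.IsCohFormal I G) (α : F ⟶ G) {c c' : ℕ} (h : ARData I α c c') :
    Nonempty (ESys I α c c') := by
  refine ⟨{
    E := Esys α c
    ι := Eι α c
    mono := fun n => inferInstanceAs (Mono (Abelian.image.ι (ψn α c n)))
    coh := fun n => Groth.Agent.H8.isCoh_kernel (hF.1 n)
      (Groth.Agent.H8.isCoh_cokernel
        (Groth.Agent.H8.isCoh_kernel (hF.1 (n + c)) (hG.1 (n + c)) _) (hF.1 n) (ψn α c n))
      (cokernel.π (ψn α c n))
    zero := ?_
    epi := fun hnm => epi_Esys_map α c h.stab hnm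
    fac := fun m => ⟨Abelian.factorThruImage (ψn α c m), Abelian.image.fac _⟩
    ar := ?_ }⟩
  · apply NatTrans.ext
    funext ⟨n⟩
    change Abelian.image.ι (ψn α c n) ≫ α.app (op n) = 0
    rw [← cancel_epi (Abelian.factorThruImage (ψn α c n)), comp_zero, ← Category.assoc,
      Abelian.image.fac]
    exact ψ_comp_α α _
  · intro j m k hjm hk
    have har := h.ar j m k hjm hk
    have hnat : (Esys α c).map (homOfLE hjm).op ≫ Abelian.image.ι (ψn α c j) =
        Abelian.image.ι (ψn α c m) ≫ F.map (homOfLE hjm).op :=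
      (Eι α c).naturality (homOfLE hjm).op
    have hz : kernel.ι ((Esys α c).map (homOfLE hjm).op) ≫
        (Abelian.image.ι (ψn α c m) ≫ F.map (homOfLE hjm).op) = 0 :=
      chase1 _ _ _ _ hnat (kernel.condition _)
    have e : kernel.lift (Abelian.image.ι (ψn α c m) ≫ F.map (homOfLE hjm).op)
        (kernel.ι ((Esys α c).map (homOfLE hjm).op)) hz ≫
        kernel.ι (Abelian.image.ι (ψn α c m) ≫ F.map (homOfLE hjm).op) =
        kernel.ι ((Esys α c).map (homOfLE hjm).op) := kernel.lift_ι _ _ _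
    change kernel.ι ((Esys α c).map (homOfLE hjm).op) ≫
      Formal.modPowπ I k (Abelian.image (ψn α c m)) = 0
    exact chaseC _ _ _ _ _ e rfl har

end Groth.Agent.H5.KerCE
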