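import Groth.Agent.H5.ExDefs
import Groth.Agent.H5.KerCE

set_option autoImplicit false
set_option linter.style.haveILetI false
universe u

namespace Groth.Agent.H5.ExD

open CategoryTheory CategoryTheory.Limits AlgebraicGeometry Opposite
open Groth.Agent.S9528 Groth.Agent.H5.Ker Groth.Agent.H5.Ex
open Groth.Agent.H5.KerCE (kN kN_ψ)

variable {A : Type u} [CommRing A] {X : Scheme.{u}} [X.Over (Spec (CommRingCat.of A))]
  (I : Ideal A)

theorem killedBy_of_epi {L : Ideal A} {M Q : X.Modules} (p : M ⟶ Q) [Epi p]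
    (h : Formal.KilledBy L M) : Formal.KilledBy L Q := by
  intro a ha
  rw [← cancel_epi p, ← Groth.Agent.S0832.smulMod_naturality, h a ha, zero_comp, comp_zero]

variable {G : X.Modules} {F : ℕᵒᵖ ⥤ X.Modules} (α : F ⟶ Formal.completion I G)

/-- (D) -/
theorem mono_of_arData {c c' : ℕ} (D : ARData I α c c') {t : ℕ}
    (hker : ∀ n, Formal.KilledBy (I ^ t) (kernel (α.app (op n)))) (s n : ℕ) (hs : c ≤ s)
    (hn : t + c' ≤ n + 1) : Mono (Φι I α s (n + 1) ≫ tP I α (Nat.le_succ n)) := by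
  apply Preadditive.mono_of_cancel_zero
  intro T k hk
  let p1 : pullback k (Φπ I α s (n + 1)) ⟶ T := pullback.fst _ _
  let p2 : pullback k (Φπ I α s (n + 1)) ⟶ P I α (n + 1 + s) := pullback.snd _ _
  haveI : Epi p1 := Abelian.epi_pullback_of_epi_g _ _
  have hp : p1 ≫ k = p2 ≫ Φπ I α s (n + 1) := pullback.condition
  -- key: p2 ≫ tP ≫ tP = 0
  have hkey : p2 ≫ tP I α (Nat.le_add_right (n + 1) s) ≫ tP I α (Nat.le_succ n) = 0 := by
    rw [← Φπ_ι, Category.assoc, ← Category.assoc, ← hp, Category.assoc, hk, comp_zero]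
  -- snd component
  have hσ : p2 ≫ sndP I α (n + 1 + s) = 0 := by
    have := congrArg (· ≫ sndP I α n) hkey
    simp only [Category.assoc, tP_snd, zero_comp] at this
    exact this
  -- the map to F_{n+1+s} lands in the kernel of α
  have hφ : (p2 ≫ fstP I α (n + 1 + s)) ≫ α.app (op (n + 1 + s)) = 0 := by
    rw [Category.assoc, condP, ← Category.assoc, hσ, zero_comp]
  let φ' : pullback k (Φπ I α s (n + 1)) ⟶ kernel (α.app (op (n + 1 + s))) :=
    kernel.lift _ _ hφ
  have hφ' : φ' ≫ kernel.ι _ = p2 ≫ fstP I α (n + 1 + s) := kernel.lift_ι _ _ _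
  have hcs : n + 1 + c ≤ n + 1 + s := by omega
  let ψc := ψ α (Nat.le_add_right (n + 1) c)
  let ε : pullback k (Φπ I α s (n + 1)) ⟶ Abelian.image ψc :=
    φ' ≫ kN α hcs ≫ Abelian.factorThruImage ψc
  have hτ : p2 ≫ tP I α (Nat.le_add_right (n + 1) s) ≫ fstP I α (n + 1) =
      ε ≫ Abelian.image.ι ψc := by
    change _ = (φ' ≫ kN α hcs ≫ Abelian.factorThruImage ψc) ≫ Abelian.image.ι ψc
    rw [Category.assoc, Category.assoc, Abelian.image.fac, kN_ψ, tP_fst, ← Category.assoc, ← hφ']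
    unfold ψ
    rw [Category.assoc]
  have hε0 : ε ≫ (Abelian.image.ι ψc ≫ F.map (homOfLE (Nat.le_succ n)).op) = 0 := by
    rw [← Category.assoc, ← hτ, Category.assoc, Category.assoc, ← tP_fst, ← Category.assoc,
      ← Category.assoc, Category.assoc p2, hkey, zero_comp]
  -- the Artin–Rees input
  have hE : Formal.KilledBy (I ^ t) (Abelian.image ψc) :=
    killedBy_of_epi (Abelian.factorThruImage ψc) (hker _)
  haveI : IsIso (Formal.modPowπ I t (Abelian.image ψc)) :=
    Groth.Agent.S0833.isIso_π_of_killed I hE le_rfl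
  have har := D.ar n (n + 1) t (Nat.le_succ n) hn
  have hι0 : kernel.ι (Abelian.image.ι ψc ≫ F.map (homOfLE (Nat.le_succ n)).op) = 0 := by
    rw [← cancel_mono (Formal.modPowπ I t (Abelian.image ψc)), zero_comp]
    exact har
  have hε : ε = 0 := by
    have : ε = kernel.lift _ ε hε0 ≫ kernel.ι _ := (kernel.lift_ι _ _ _).symm
    rw [this, hι0, comp_zero]
  -- conclusion
  have hfin : p2 ≫ tP I α (Nat.le_add_right (n + 1) s) = 0 := by
    apply P_hom_ext
    · rw [Category.assoc, hτ, hε, zero_comp, zero_comp]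
    · rw [Category.assoc, tP_snd, hσ, zero_comp]
  have h1 : p1 ≫ k = 0 := by
    rw [hp, ← cancel_mono (Φι I α s (n + 1)), Category.assoc, Φπ_ι, hfin, zero_comp]
  rw [← cancel_epi p1, h1, comp_zero]

end Groth.Agent.H5.ExD
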