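import Groth.Agent.H5.KerLoc

/-!
# Definitions for S0829 (existence, easy left case): the pullback system `P_n = F_n ×_{G_n} G`
and its stable images `Φ_n = im(P_{n+s} → P_n)`.
-/
set_option autoImplicit false
universe u

namespace Groth.Agent.H5.Ex

open CategoryTheory CategoryTheory.Limits AlgebraicGeometry Opposite

variable {A : Type u} [CommRing A] {X : Scheme.{u}} [X.Over (Spec (CommRingCat.of A))]
  (I : Ideal A)

/-- The projection `G → G/I^{n+1}G`, typed into the completion system. -/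
noncomputable def πG (G : X.Modules) (n : ℕ) : G ⟶ (Formal.completion I G).obj (op n) :=
  Formal.modPowπ I (n + 1) G

theorem πG_map (G : X.Modules) {n m : ℕ} (h : n ≤ m) :
    πG I G m ≫ (Formal.completion I G).map (homOfLE h).op = πG I G n :=
  (Groth.Agent.S0833.π_compat I G).le I h

variable {G : X.Modules} {F : ℕᵒᵖ ⥤ X.Modules} (α : F ⟶ Formal.completion I G)

/-- `P_n = F_n ×_{G_n} G`. -/
noncomputable def P (n : ℕ) : X.Modules := pullback (α.app (op n)) (πG I G n)

/-- `P_n → F_n`. -/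
noncomputable def fstP (n : ℕ) : P I α n ⟶ F.obj (op n) := pullback.fst _ _

/-- `P_n → G`. -/
noncomputable def sndP (n : ℕ) : P I α n ⟶ G := pullback.snd _ _

theorem condP (n : ℕ) : fstP I α n ≫ α.app (op n) = sndP I α n ≫ πG I G n := pullback.condition

/-- The transition map `P_m → P_n`, `(x, g) ↦ (x|_n, g)`. -/
noncomputable def tP {n m : ℕ} (h : n ≤ m) : P I α m ⟶ P I α n :=
  pullback.lift (fstP I α m ≫ F.map (homOfLE h).op) (sndP I α m) (by
    have h1 := α.naturality (homOfLE h).op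
    rw [Category.assoc, h1, ← Category.assoc, condP, Category.assoc, πG_map])

@[reassoc]
theorem tP_fst {n m : ℕ} (h : n ≤ m) :
    tP I α h ≫ fstP I α n = fstP I α m ≫ F.map (homOfLE h).op := pullback.lift_fst _ _ _

@[reassoc]
theorem tP_snd {n m : ℕ} (h : n ≤ m) : tP I α h ≫ sndP I α n = sndP I α m := pullback.lift_snd _ _ _

theorem P_hom_ext {T : X.Modules} {n : ℕ} {u v : T ⟶ P I α n} (h1 : u ≫ fstP I α n = v ≫ fstP I α n)
    (h2 : u ≫ sndP I α n = v ≫ sndP I α n) : u = v := pullback.hom_ext h1 h2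

/-- The stable image `Φ_n = im(P_{n+s} → P_n)`. -/
noncomputable def Φ (s n : ℕ) : X.Modules := Abelian.image (tP I α (Nat.le_add_right n s))

/-- `Φ_n ↪ P_n`. -/
noncomputable def Φι (s n : ℕ) : Φ I α s n ⟶ P I α n := Abelian.image.ι _

instance (s n : ℕ) : Mono (Φι I α s n) :=
  inferInstanceAs (Mono (kernel.ι (cokernel.π (tP I α (Nat.le_add_right n s)))))

/-- `P_{n+s} ↠ Φ_n`. -/
noncomputable def Φπ (s n : ℕ) : P I α (n + s) ⟶ Φ I α s n := Abelian.factorThruImage _

instance (s n : ℕ) : Epi (Φπ I α s n) := by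
  unfold Φπ
  exact Abelian.instEpiFactorThruImage _

@[reassoc]
theorem Φπ_ι (s n : ℕ) : Φπ I α s n ≫ Φι I α s n = tP I α (Nat.le_add_right n s) :=
  Abelian.image.fac _

/-- `Φ_n → F_n`. -/
noncomputable def pΦ (s n : ℕ) : Φ I α s n ⟶ F.obj (op n) := Φι I α s n ≫ fstP I α n

/-- `Φ_n → G`. -/
noncomputable def aΦ (s n : ℕ) : Φ I α s n ⟶ G := Φι I α s n ≫ sndP I α n

end Groth.Agent.H5.Ex
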