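import Mathlib
import Groth.Prelude.Def_FlatMod2
import Groth.Agent.H8.FlatBC
import Groth.Agent.H8.FlatAffine
import Groth.Agent.H8.SectionsExact
import Groth.Agent.H8.QCohPush
import Groth.Agent.H39.PullTrack5
import Groth.Agent.H39.ConormalMono
set_option autoImplicit false
universe u
open CategoryTheory CategoryTheory.Limits AlgebraicGeometry TopologicalSpace Opposite TensorProduct
open Groth.Agent.H39.PullTrack

namespace Groth.Agent.H5.FlatQuot_TF

/-- A section whose basic open is everything is a unit. -/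
theorem isUnit_of_basicOpen_eq {X : Scheme.{u}} {W : X.Opens} (r : Γ(X, W))
    (h : X.basicOpen r = W) : IsUnit r := by
  have h1 := X.toRingedSpace.isUnit_res_basicOpen r
  have e : X.toRingedSpace.basicOpen r = W := h
  have hiso : IsIso (X.presheaf.map (homOfLE (X.toRingedSpace.basicOpen_le r)).op) := by
    have : homOfLE (X.toRingedSpace.basicOpen_le r) = eqToHom e := rfl
    rw [this]
    infer_instance
  have h2 := h1.map (inv (X.presheaf.map (homOfLE (X.toRingedSpace.basicOpen_le r)).op)).hom
  rwa [← CommRingCat.comp_apply, IsIso.hom_inv_id, CommRingCat.id_apply] at h2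

theorem smul_eq_zero_sections {X Y : Scheme.{u}} [IsIntegral Y] (f : X ⟶ Y)
    (G' : (f.fiber (genericPoint Y)).Modules) {G : X.Modules}
    (m : G ⟶ (Scheme.Modules.pushforward (f.fiberι (genericPoint Y))).obj G') [Mono m]
    {V : Y.Opens} (hV : IsAffineOpen V) (hη : genericPoint Y ∈ V)
    {U : X.Opens} (hUV : U ≤ f ⁻¹ᵁ V) (a : Γ(Y, V)) (ha : a ≠ 0) (s : Γ(G, U))
    (h : (f.appLE V U hUV a) • s = 0) : s = 0 := by
  apply Groth.Agent.H8.app_injective_of_mono m U
  rw [map_zero]
  have h1 : m.app U ((f.appLE V U hUV a) • s) = 0 := by rw [h, map_zero]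
  rw [Scheme.Modules.Hom.app_smul] at h1
  have hbo : (f.fiber (genericPoint Y)).basicOpen
      ((f.fiberι (genericPoint Y)).app U (f.appLE V U hUV a)) =
      (f.fiberι (genericPoint Y)) ⁻¹ᵁ U := by
    rw [← Scheme.preimage_basicOpen, Scheme.basicOpen_appLE]
    ext x
    simp only [Scheme.Hom.preimage_inf, Opens.coe_inf, Set.mem_inter_iff, SetLike.mem_coe,
      and_iff_left_iff_imp]
    intro _
    show (f ((f.fiberι (genericPoint Y)) x)) ∈ Y.basicOpen a
    have hfac : f ((f.fiberι (genericPoint Y)) x) = (Y.fromSpecResidueField (genericPoint Y))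
        (f.fiberToSpecResidueField (genericPoint Y) x) := by
      rw [← Scheme.Hom.comp_apply, ← Scheme.Hom.comp_apply, Scheme.Hom.fiber_fac]
    rw [hfac, Scheme.fromSpecResidueField_apply]
    have hne : (Y.basicOpen a : Set Y).Nonempty := by
      by_contra hcon
      rw [Set.not_nonempty_iff_eq_empty] at hcon
      apply ha
      rw [← AlgebraicGeometry.basicOpen_eq_bot_iff]
      ext y
      simp [← SetLike.mem_coe, hcon]
    exact ((genericPoint_spec Y).mem_open_set_iff (Y.basicOpen a).2).mpr (by simpa using hne)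
  obtain ⟨u, hu'⟩ := isUnit_of_basicOpen_eq _ hbo
  have key : ∀ (y : Γ(G', (f.fiberι (genericPoint Y)) ⁻¹ᵁ U)),
      ((f.fiberι (genericPoint Y)).app U (f.appLE V U hUV a)) • y = 0 → y = 0 := by
    intro y h2
    have : y = (↑u⁻¹ * ((f.fiberι (genericPoint Y)).app U (f.appLE V U hUV a))) • y := by
      rw [← hu', Units.inv_mul, one_smul]
    rw [this, mul_smul, h2, smul_zero]
  exact key _ h1

end Groth.Agent.H5.FlatQuot_TF
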