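import Mathlib.CategoryTheory.Abelian.GrothendieckCategory.EnoughInjectives

set_option autoImplicit false
universe w v u

namespace Groth.Agent.H5

open CategoryTheory Limits ZeroObject MorphismProperty

/-- The functor sending `X` to the arrow `X ⟶ 0`. -/
noncomputable def toZeroArrow (A : Type u) [Category.{v} A] [HasZeroObject A] [HasZeroMorphisms A] :
    A ⥤ Arrow A where
  obj X := Arrow.mk (0 : X ⟶ (0 : A))
  map {X Y} f := Arrow.homMk f (𝟙 _) (by simp)
  map_id X := by ext <;> simp
  map_comp f g := by ext <;> simp

/-- A Grothendieck abelian category has functorial injective embeddings. -/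
theorem exists_functorial_injective_embedding (A : Type u) [Category.{v} A] [Abelian A]
    [IsGrothendieckAbelian.{w} A] :
    ∃ (J : A ⥤ A) (j : 𝟭 A ⟶ J), ∀ X : A, Injective (J.obj X) ∧ Mono (j.app X) := by
  let data : FunctorialFactorizationData (monomorphisms A) (monomorphisms A).rlp :=
    functorialFactorizationData _ _
  refine ⟨toZeroArrow A ⋙ data.Z, Functor.whiskerLeft (toZeroArrow A) data.i, fun X => ⟨?_, ?_⟩⟩
  · have hp := data.hp ((toZeroArrow A).obj X)
    have : data.p.app ((toZeroArrow A).obj X) = 0 := (isZero_zero A).eq_of_tgt _ _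
    rw [this] at hp
    rw [injective_iff_rlp_monomorphisms_zero]
    exact hp
  · exact data.hi ((toZeroArrow A).obj X)

end Groth.Agent.H5
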