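import Groth.Agent.S9528
import Groth.Agent.S0833

/-!
# Definitions for kernels in Coh(X, I) (S0834)
-/
set_option autoImplicit false
universe u

namespace Groth.Agent.H5.Ker

open CategoryTheory CategoryTheory.Limits AlgebraicGeometry Opposite
open Groth.Agent.S9528

variable {A : Type u} [CommRing A] {X : Scheme.{u}} [X.Over (Spec (CommRingCat.of A))]

/-- The map `N_m = Ker(α_m) ⟶ F_n` (`n ≤ m`): inclusion followed by the transition map. -/
noncomputable def ψ {F G : ℕᵒᵖ ⥤ X.Modules} (α : F ⟶ G) {n m : ℕ} (h : n ≤ m) :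
    kernel (α.app (op m)) ⟶ F.obj (op n) :=
  kernel.ι (α.app (op m)) ≫ F.map (homOfLE h).op

/-- Uniform Artin–Rees data for `α`: the images of `N_m` in `F_n` are constant for `m ≥ n + c`,
and the image system `E_m = im(N_{m+c} → F_m)` satisfies `E_m ∩ I^{j+1}F_m ⊆ I^k E_m` for
`k + c' ≤ j + 1 ≤ m + 1`. -/
structure ARData (I : Ideal A) {F G : ℕᵒᵖ ⥤ X.Modules} (α : F ⟶ G) (c c' : ℕ) : Prop where
  stab : ∀ (n m : ℕ) (h : n + c ≤ m),
    ψ α (Nat.le_add_right n c) ≫ cokernel.π (ψ α (le_of_add_le_left h)) = 0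
  ar : ∀ (j m k : ℕ) (h : j ≤ m), k + c' ≤ j + 1 →
    kernel.ι (Abelian.image.ι (ψ α (Nat.le_add_right m c)) ≫ F.map (homOfLE h).op) ≫
      Formal.modPowπ I k (Abelian.image (ψ α (Nat.le_add_right m c))) = 0

/-- The abstract "image system" of `α`. -/
structure ESys (I : Ideal A) {F G : ℕᵒᵖ ⥤ X.Modules} (α : F ⟶ G) (c c' : ℕ) where
  E : ℕᵒᵖ ⥤ X.Modules
  ι : E ⟶ F
  mono : ∀ n : ℕ, Mono (ι.app (op n))
  coh : ∀ n : ℕ, Coh.IsCoh (E.obj (op n))
  zero : ι ≫ α = 0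
  epi : ∀ {n m : ℕ} (h : n ≤ m), Epi (E.map (homOfLE h).op)
  fac : ∀ m : ℕ, ∃ l : kernel (α.app (op (m + c))) ⟶ E.obj (op m),
    l ≫ ι.app (op m) = ψ α (Nat.le_add_right m c)
  ar : ∀ (j m k : ℕ) (h : j ≤ m), k + c' ≤ j + 1 →
    kernel.ι (E.map (homOfLE h).op) ≫ Formal.modPowπ I k (E.obj (op m)) = 0

/-- The shift `m ↦ m + c'`. -/
def sh (c' : ℕ) : ℕ → ℕ := fun m => m + c'

theorem sh_mono (c' : ℕ) : Monotone (sh c') := fun _ _ h => Nat.add_le_add_right h c'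

theorem le_sh (c' n : ℕ) : n ≤ sh c' n := Nat.le_add_right n c'

end Groth.Agent.H5.Ker
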