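import Groth.Agent.H5.KerDefs
import Groth.Agent.H18.Serre.Generation
import Groth.Agent.H83.KerALG

set_option autoImplicit false
set_option linter.style.haveILetI false
universe u

namespace Groth.Agent.H5.KerLoc

open CategoryTheory CategoryTheory.Limits AlgebraicGeometry Opposite
open Groth.Agent.S9528 Groth.Agent.H5.Ker
open Groth.Agent.H8 (appₗ app_res)
open Groth.Agent.S0833 (Jm)

variable {A : Type u} [CommRing A] {X : Scheme.{u}} [X.Over (Spec (CommRingCat.of A))]
  (I : Ideal A)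

/-- A morphism out of a quasi-coherent module vanishing on sections over an affine cover is zero. -/
theorem eq_zero_of_affine_cover {P Q : X.Modules} [P.IsQuasicoherent] (φ : P ⟶ Q)
    {ι : Type*} (U : ι → X.Opens) (hU : TopologicalSpace.IsOpenCover U) (hU' : ∀ i, IsAffineOpen (U i))
    (h : ∀ i (s : Γ(P, U i)), φ.app (U i) s = 0) : φ = 0 := by
  haveI : Epi (kernel.ι φ) := by
    apply Groth.Agent.H18.Serre.epi_of_surjective_affine_cover (kernel.ι φ) U hU hU'
    intro i s
    obtain ⟨x, hx⟩ := Groth.Agent.H8.exists_app_eq_of_exact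
      (ShortComplex.mk (kernel.ι φ) φ (kernel.condition φ))
      (ShortComplex.exact_of_f_is_kernel _ (kernelIsKernel φ)) (U i) s (h i s)
    exact ⟨x, hx⟩
  rw [← cancel_epi (kernel.ι φ), kernel.condition, comp_zero]

/-- Transition maps on sections. -/
noncomputable abbrev Tm (F : ℕᵒᵖ ⥤ X.Modules) (W : X.Opens) {n m : ℕ} (h : n ≤ m) :
    Γ(F.obj (op m), W) →ₗ[Γ(X, W)] Γ(F.obj (op n), W) :=
  appₗ (F.map (homOfLE h).op) W

/-- The map on sections. -/
noncomputable abbrev am {F G : ℕᵒᵖ ⥤ X.Modules} (α : F ⟶ G) (W : X.Opens) (n : ℕ) :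
    Γ(F.obj (op n), W) →ₗ[Γ(X, W)] Γ(G.obj (op n), W) :=
  appₗ (α.app (op n)) W

theorem Tm_refl (F : ℕᵒᵖ ⥤ X.Modules) (W : X.Opens) (n : ℕ) :
    Tm F W (le_refl n) = LinearMap.id := by
  apply LinearMap.ext
  intro x
  have : F.map (homOfLE (le_refl n)).op = 𝟙 _ := by
    have : (homOfLE (le_refl n)).op = 𝟙 (op n) := rfl
    rw [this, F.map_id]
  change (F.map (homOfLE (le_refl n)).op).app W x = x
  rw [this]
  rfl

theorem Tm_comp (F : ℕᵒᵖ ⥤ X.Modules) (W : X.Opens) {n m k : ℕ} (h : n ≤ m) (h' : m ≤ k) :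
    (Tm F W h).comp (Tm F W h') = Tm F W (h.trans h') := by
  apply LinearMap.ext
  intro x
  have : F.map (homOfLE (h.trans h')).op = F.map (homOfLE h').op ≫ F.map (homOfLE h).op := by
    rw [← F.map_comp]
    rfl
  change (F.map (homOfLE h).op).app W ((F.map (homOfLE h').op).app W x) =
    (F.map (homOfLE (h.trans h')).op).app W x
  rw [this]
  rfl

theorem am_Tm {F G : ℕᵒᵖ ⥤ X.Modules} (α : F ⟶ G) (W : X.Opens) {n m : ℕ} (h : n ≤ m) :
    (Tm G W h).comp (am α W m) = (am α W n).comp (Tm F W h) := by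
  apply LinearMap.ext
  intro x
  have := α.naturality (homOfLE h).op
  change (G.map (homOfLE h).op).app W ((α.app (op m)).app W x) =
    (α.app (op n)).app W ((F.map (homOfLE h).op).app W x)
  have e1 : (G.map (homOfLE h).op).app W ((α.app (op m)).app W x) =
      (α.app (op m) ≫ G.map (homOfLE h).op).app W x := rfl
  have e2 : (α.app (op n)).app W ((F.map (homOfLE h).op).app W x) =
      (F.map (homOfLE h).op ≫ α.app (op n)).app W x := rfl
  rw [e1, e2, this]

theorem Tm_surjective {F : ℕᵒᵖ ⥤ X.Modules} (hF : Formal.IsCohFormal I F) {W : X.Opens}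
    (hW : IsAffineOpen W) {n m : ℕ} (h : n ≤ m) : Function.Surjective (Tm F W h) := by
  haveI := (isQuot_of_cohFormal I hF h).epi
  haveI : (F.obj (op m)).IsQuasicoherent := (hF.1 m).1
  haveI : (F.obj (op n)).IsQuasicoherent := (hF.1 n).1
  exact Groth.Agent.S0833.app_surjective_of_epi (F.map (homOfLE h).op) hW

theorem ker_Tm [IsNoetherian X] {F : ℕᵒᵖ ⥤ X.Modules} (hF : Formal.IsCohFormal I F)
    {W : X.Opens} (hW : IsAffineOpen W) {n m : ℕ} (h : n ≤ m) :
    LinearMap.ker (Tm F W h) = (Jm I W) ^ (n + 1) • (⊤ : Submodule Γ(X, W) Γ(F.obj (op m), W)) := by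
  haveI : (F.obj (op m)).IsQuasicoherent := (hF.1 m).1
  obtain ⟨e, he⟩ := IsQuot.exists_iso (isQuot_π (I ^ (n + 1)) (F.obj (op m)))
    (isQuot_of_cohFormal I hF h)
  have hk := Groth.Agent.S0833.ker_π I (F.obj (op m)) (n + 1) hW
  have hJ : (Jm I W) ^ (n + 1) = Jm (I ^ (n + 1)) W := (Ideal.map_pow _ _ _).symm
  rw [hJ, ← hk]
  ext x
  simp only [LinearMap.mem_ker]
  have e1 : Tm F W h x = e.hom.app W ((Formal.modPowπ I (n + 1) (F.obj (op m))).app W x) := by
    change (F.map (homOfLE h).op).app W x = _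
    rw [← he]
    rfl
  have hinj : Function.Injective (e.hom.app W) := by
    haveI : Mono e.hom := inferInstance
    exact Groth.Agent.H8.app_injective_of_mono e.hom W
  constructor
  · intro hx
    rw [e1] at hx
    apply hinj
    exact hx.trans (map_zero (e.hom.app W).hom).symm
  · intro hx
    rw [e1]
    have h0 : (Formal.modPowπ I (n + 1) (F.obj (op m))).app W x = 0 := hx
    exact (congrArg (e.hom.app W) h0).trans (map_zero (e.hom.app W).hom)

theorem finite_sections [IsNoetherian X] {F : ℕᵒᵖ ⥤ X.Modules} (hF : Formal.IsCohFormal I F)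
    {W : X.Opens} (hW : IsAffineOpen W) (n : ℕ) : Module.Finite Γ(X, W) Γ(F.obj (op n), W) := by
  haveI : (F.obj (op n)).IsQuasicoherent := (hF.1 n).1
  haveI : SheafOfModules.IsFiniteType (R := X.ringCatSheaf) (F.obj (op n)) := (hF.1 n).2
  exact Groth.Agent.H8.finite_sections_of_isAffineOpen (F.obj (op n)) hW

/-- The algebra statement on an affine open. -/
theorem affine_AR [IsNoetherian X] {F G : ℕᵒᵖ ⥤ X.Modules} (hF : Formal.IsCohFormal I F)
    (hG : Formal.IsCohFormal I G) (α : F ⟶ G) {W : X.Opens} (hW : IsAffineOpen W) :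
    ∃ c c' : ℕ,
      (∀ (n m : ℕ) (h : n + c ≤ m),
        Submodule.map (Tm F W (le_of_add_le_left h)) (LinearMap.ker (am α W m)) =
          Submodule.map (Tm F W (Nat.le_add_right n c)) (LinearMap.ker (am α W (n + c)))) ∧
      (∀ (j m k : ℕ) (h : j ≤ m), k + c' ≤ j + 1 →
        Submodule.map (Tm F W (Nat.le_add_right m c)) (LinearMap.ker (am α W (m + c))) ⊓
            LinearMap.ker (Tm F W h) ≤
          (Jm I W) ^ k • Submodule.map (Tm F W (Nat.le_add_right m c))
            (LinearMap.ker (am α W (m + c)))) := by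
  haveI := Groth.Agent.S0833.isNoetherianRing_sections hW
  haveI : ∀ n, Module.Finite Γ(X, W) Γ(F.obj (op n), W) := finite_sections I hF hW
  haveI : ∀ n, Module.Finite Γ(X, W) Γ(G.obj (op n), W) := finite_sections I hG hW
  exact Groth.Agent.H83.KerALG.alg_AR (Jm I W) (fun n => Γ(F.obj (op n), W))
    (fun n => Γ(G.obj (op n), W)) (fun h => Tm F W h) (fun h => Tm G W h)
    (Tm_refl F W) (fun h h' => Tm_comp F W h h') (Tm_refl G W) (fun h h' => Tm_comp G W h h')
    (am α W) (fun h => am_Tm α W h)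
    (fun h => Tm_surjective I hF hW h) (fun h => ker_Tm I hF hW h)
    (fun h => Tm_surjective I hG hW h) (fun h => ker_Tm I hG hW h)

/-- Sections of the kernel: an element killed by `α_m` on sections comes from the kernel. -/
theorem exists_kernel_section {P Q : X.Modules} (φ : P ⟶ Q) (W : X.Opens) (y : Γ(P, W))
    (hy : φ.app W y = 0) : ∃ z : Γ(kernel φ, W), (kernel.ι φ).app W z = y :=
  Groth.Agent.H8.exists_app_eq_of_exact
    (ShortComplex.mk (kernel.ι φ) φ (kernel.condition φ))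
    (ShortComplex.exact_of_f_is_kernel _ (kernelIsKernel φ)) W y hy

theorem kernel_ι_app_comp {P Q : X.Modules} (φ : P ⟶ Q) (W : X.Opens) (z : Γ(kernel φ, W)) :
    φ.app W ((kernel.ι φ).app W z) = 0 := by
  have h0 : (kernel.ι φ ≫ φ).app W = 0 := by rw [kernel.condition]; rfl
  exact congr($h0 z)

theorem ψ_app {F G : ℕᵒᵖ ⥤ X.Modules} (α : F ⟶ G) (W : X.Opens) {n m : ℕ} (h : n ≤ m)
    (z : Γ(kernel (α.app (op m)), W)) :
    (ψ α h).app W z = Tm F W h ((kernel.ι (α.app (op m))).app W z) := rfl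

/-- `stab` on sections. -/
theorem stab_sections {F G : ℕᵒᵖ ⥤ X.Modules} (α : F ⟶ G) {W : X.Opens} (n m c : ℕ)
    (h : n + c ≤ m)
    (h1 : Submodule.map (Tm F W (le_of_add_le_left h)) (LinearMap.ker (am α W m)) =
      Submodule.map (Tm F W (Nat.le_add_right n c)) (LinearMap.ker (am α W (n + c))))
    (s : Γ(kernel (α.app (op (n + c))), W)) :
    (ψ α (Nat.le_add_right n c) ≫ cokernel.π (ψ α (le_of_add_le_left h))).app W s = 0 := by
  have hx : (ψ α (Nat.le_add_right n c)).app W s ∈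
      Submodule.map (Tm F W (Nat.le_add_right n c)) (LinearMap.ker (am α W (n + c))) :=
    ⟨_, kernel_ι_app_comp _ W s, rfl⟩
  rw [← h1] at hx
  obtain ⟨y, hy, hyx⟩ := hx
  obtain ⟨z, hz⟩ := exists_kernel_section (α.app (op m)) W y hy
  have e : (ψ α (Nat.le_add_right n c)).app W s = (ψ α (le_of_add_le_left h)).app W z := by
    rw [ψ_app α W (le_of_add_le_left h) z, hz]
    exact hyx.symm
  change (cokernel.π (ψ α (le_of_add_le_left h))).app W ((ψ α (Nat.le_add_right n c)).app W s) = 0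
  rw [e]
  have h0 : (ψ α (le_of_add_le_left h) ≫ cokernel.π (ψ α (le_of_add_le_left h))).app W = 0 := by
    rw [cokernel.condition]; rfl
  exact congr($h0 z)

/-- `ar` on sections, general form. -/
theorem ar_aux [IsNoetherian X] {N Fm Fj : X.Modules} [N.IsQuasicoherent] [Fm.IsQuasicoherent]
    (p : N ⟶ Fm) (t : Fm ⟶ Fj) {W : X.Opens} (hW : IsAffineOpen W) (k : ℕ)
    (h2 : LinearMap.range (appₗ p W) ⊓ LinearMap.ker (appₗ t W) ≤
      (Jm I W) ^ k • LinearMap.range (appₗ p W))
    (s : Γ(kernel (Abelian.image.ι p ≫ t), W)) :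
    (kernel.ι (Abelian.image.ι p ≫ t) ≫ Formal.modPowπ I k (Abelian.image p)).app W s = 0 := by
  haveI : (cokernel p).IsQuasicoherent := Groth.Agent.H8.isQuasicoherent_cokernel p
  haveI qE : (Abelian.image p).IsQuasicoherent :=
    Groth.Agent.H22.QCohLimits.isQuasicoherent_kernel (cokernel.π p)
  obtain ⟨x, hx⟩ : ∃ x : Γ(Abelian.image p, W), x = (kernel.ι (Abelian.image.ι p ≫ t)).app W s :=
    ⟨_, rfl⟩
  haveI : Epi (Abelian.factorThruImage p) := inferInstance
  obtain ⟨z, hz⟩ := Groth.Agent.S0833.app_surjective_of_epi (Abelian.factorThruImage p) hW x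
  have hy1 : (Abelian.image.ι p).app W x = p.app W z := by
    rw [← hz]
    have h0 : (Abelian.factorThruImage p ≫ Abelian.image.ι p).app W = p.app W := by
      rw [Abelian.image.fac]
    exact congr($h0 z)
  have hy2 : t.app W ((Abelian.image.ι p).app W x) = 0 := by
    rw [hx]
    have h0 : (kernel.ι (Abelian.image.ι p ≫ t) ≫ (Abelian.image.ι p ≫ t)).app W = 0 := by
      rw [kernel.condition]; rfl
    exact congr($h0 s)
  have hmem : (Abelian.image.ι p).app W x ∈ (Jm I W) ^ k • LinearMap.range (appₗ p W) := by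
    apply h2
    refine ⟨?_, hy2⟩
    rw [hy1]
    exact ⟨z, rfl⟩
  have hle : LinearMap.range (appₗ p W) ≤
      Submodule.map (appₗ (Abelian.image.ι p) W) ⊤ := by
    rintro _ ⟨z', rfl⟩
    refine ⟨(Abelian.factorThruImage p).app W z', trivial, ?_⟩
    have h0 : (Abelian.factorThruImage p ≫ Abelian.image.ι p).app W = p.app W := by
      rw [Abelian.image.fac]
    exact congr($h0 z')
  have hmem2 : (Abelian.image.ι p).app W x ∈
      Submodule.map (appₗ (Abelian.image.ι p) W) ((Jm I W) ^ k • ⊤) := by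
    rw [Submodule.map_smul'']
    exact Submodule.smul_mono le_rfl hle hmem
  obtain ⟨x', hx', hxx'⟩ := hmem2
  have hinj := Groth.Agent.H8.app_injective_of_mono (Abelian.image.ι p) W
  have hxeq : x' = x := hinj hxx'
  rw [hxeq] at hx'
  have hk := Groth.Agent.S0833.ker_π I (Abelian.image p) k hW
  have hJ : (Jm I W) ^ k = Jm (I ^ k) W := (Ideal.map_pow _ _ _).symm
  rw [hJ, ← hk] at hx'
  have h3 : (Formal.modPowπ I k (Abelian.image p)).app W x = 0 := hx'
  change (Formal.modPowπ I k (Abelian.image p)).app W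
    ((kernel.ι (Abelian.image.ι p ≫ t)).app W s) = 0
  rw [← hx]
  exact h3

theorem range_ψ {F G : ℕᵒᵖ ⥤ X.Modules} (α : F ⟶ G) (W : X.Opens) {n m : ℕ} (h : n ≤ m) :
    LinearMap.range (appₗ (ψ α h) W) =
      Submodule.map (Tm F W h) (LinearMap.ker (am α W m)) := by
  apply le_antisymm
  · rintro _ ⟨z, rfl⟩
    exact ⟨_, kernel_ι_app_comp _ W z, rfl⟩
  · rintro _ ⟨y, hy, rfl⟩
    obtain ⟨z, hz⟩ := exists_kernel_section (α.app (op m)) W y hy
    refine ⟨z, ?_⟩
    change (ψ α h).app W z = _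
    rw [ψ_app, hz]

/-- (LOC) uniform Artin–Rees data exist. -/
theorem exists_arData [IsNoetherian X] {F G : ℕᵒᵖ ⥤ X.Modules} (hF : Formal.IsCohFormal I F)
    (hG : Formal.IsCohFormal I G) (α : F ⟶ G) : ∃ c c' : ℕ, ARData I α c c' := by
  classical
  obtain ⟨t, ht⟩ : ∃ t : Finset X.affineOpens, ∀ x : X, ∃ V ∈ t, x ∈ V.1 := by
    have hcov : (Set.univ : Set X) ⊆ ⋃ V : X.affineOpens, (V.1 : Set X) := by
      intro x _
      obtain ⟨_, ⟨V, hV, rfl⟩, hxV, -⟩ :=
        X.isBasis_affineOpens.exists_subset_of_mem_open (Set.mem_univ x) isOpen_univ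
      exact Set.mem_iUnion.mpr ⟨⟨V, hV⟩, hxV⟩
    obtain ⟨t, ht⟩ := isCompact_univ.elim_finite_subcover _
      (fun V : X.affineOpens => V.1.2) hcov
    exact ⟨t, fun x => by simpa using ht (Set.mem_univ x)⟩
  choose cf cf' hcf using fun V : X.affineOpens => affine_AR I hF hG α V.2
  obtain ⟨c, hc⟩ : ∃ c : ℕ, c = t.sup cf := ⟨_, rfl⟩
  obtain ⟨c', hc'⟩ : ∃ c' : ℕ, c' = t.sup cf' := ⟨_, rfl⟩
  have hcV : ∀ V ∈ t, cf V ≤ c := fun V hV => hc ▸ Finset.le_sup hV
  have hcV' : ∀ V ∈ t, cf' V ≤ c' := fun V hV => hc' ▸ Finset.le_sup hV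
  -- the first conjunct for the uniform constant
  have h1 : ∀ V ∈ t, ∀ (n m : ℕ) (h : n + c ≤ m),
      Submodule.map (Tm F V.1 (le_of_add_le_left h)) (LinearMap.ker (am α V.1 m)) =
        Submodule.map (Tm F V.1 (Nat.le_add_right n c)) (LinearMap.ker (am α V.1 (n + c))) := by
    intro V hV n m h
    have hle := hcV V hV
    exact ((hcf V).1 n m (by omega)).trans ((hcf V).1 n (n + c) (by omega)).symm
  have h2 : ∀ V ∈ t, ∀ (j m k : ℕ) (h : j ≤ m), k + c' ≤ j + 1 →
      Submodule.map (Tm F V.1 (Nat.le_add_right m c)) (LinearMap.ker (am α V.1 (m + c))) ⊓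
          LinearMap.ker (Tm F V.1 h) ≤
        (Jm I V.1) ^ k • Submodule.map (Tm F V.1 (Nat.le_add_right m c))
          (LinearMap.ker (am α V.1 (m + c))) := by
    intro V hV j m k h hk
    have hle := hcV V hV
    have hle' := hcV' V hV
    have e : Submodule.map (Tm F V.1 (Nat.le_add_right m c)) (LinearMap.ker (am α V.1 (m + c))) =
        Submodule.map (Tm F V.1 (Nat.le_add_right m (cf V)))
          (LinearMap.ker (am α V.1 (m + cf V))) :=
      (hcf V).1 m (m + c) (by omega)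
    rw [e]
    exact (hcf V).2 j m k h (by omega)
  have hcov : TopologicalSpace.IsOpenCover (fun V : ↥t => (V.1.1 : X.Opens)) := by
    apply TopologicalSpace.IsOpenCover.mk
    ext x
    simp only [TopologicalSpace.Opens.coe_iSup, Set.mem_iUnion, SetLike.mem_coe,
      TopologicalSpace.Opens.coe_top, Set.mem_univ, iff_true]
    obtain ⟨V, hV, hx⟩ := ht x
    exact ⟨⟨V, hV⟩, hx⟩
  refine ⟨c, c', ⟨?_, ?_⟩⟩
  · intro n m h
    haveI : (F.obj (op (n + c))).IsQuasicoherent := (hF.1 _).1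
    haveI : (G.obj (op (n + c))).IsQuasicoherent := (hG.1 _).1
    haveI : (kernel (α.app (op (n + c)))).IsQuasicoherent :=
      Groth.Agent.H22.QCohLimits.isQuasicoherent_kernel _
    apply eq_zero_of_affine_cover _ (fun V : ↥t => (V.1.1 : X.Opens)) hcov (fun V => V.1.2)
    intro V s
    exact stab_sections α n m c h (h1 V.1 V.2 n m h) s
  · intro j m k h hk
    haveI : (F.obj (op (m + c))).IsQuasicoherent := (hF.1 _).1
    haveI : (G.obj (op (m + c))).IsQuasicoherent := (hG.1 _).1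
    haveI : (F.obj (op m)).IsQuasicoherent := (hF.1 _).1
    haveI : (F.obj (op j)).IsQuasicoherent := (hF.1 _).1
    haveI : (kernel (α.app (op (m + c)))).IsQuasicoherent :=
      Groth.Agent.H22.QCohLimits.isQuasicoherent_kernel _
    haveI : (cokernel (ψ α (Nat.le_add_right m c))).IsQuasicoherent :=
      Groth.Agent.H8.isQuasicoherent_cokernel _
    haveI : (Abelian.image (ψ α (Nat.le_add_right m c))).IsQuasicoherent :=
      Groth.Agent.H22.QCohLimits.isQuasicoherent_kernel (cokernel.π (ψ α (Nat.le_add_right m c)))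
    haveI : (kernel (Abelian.image.ι (ψ α (Nat.le_add_right m c)) ≫
        F.map (homOfLE h).op)).IsQuasicoherent :=
      Groth.Agent.H22.QCohLimits.isQuasicoherent_kernel _
    apply eq_zero_of_affine_cover _ (fun V : ↥t => (V.1.1 : X.Opens)) hcov (fun V => V.1.2)
    intro V s
    refine ar_aux I (ψ α (Nat.le_add_right m c)) (F.map (homOfLE h).op) V.1.2 k ?_ s
    rw [range_ψ]
    exact h2 V.1 V.2 j m k h hk

end Groth.Agent.H5.KerLoc
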