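import Groth.Agent.H34.KeyDefs
import Groth.Agent.S1848
import Groth.Agent.S1851
import Groth.Agent.H85.CycOpen
import Groth.Agent.H45.KeyS1
import Groth.Agent.H87.KeyRing

set_option autoImplicit false
set_option linter.style.haveILetI false

universe u v

open CategoryTheory AlgebraicGeometry TopologicalSpace Opposite

namespace Groth.Agent.H5.KeyS9

open Groth.Agent.H34.Key
open Groth.Agent.H18.TensorGen (IsGen exists_isGen exists_isGen_pair)



variable {X : Scheme.{u}} [IsIntegral X]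

/-- The nonvanishing of `gOf`, given the two ingredients (RC1) (nonvanishing of the extended tame
symbol) as a hypothesis on the value. -/
theorem gOf_ne_zero (ξ : X) (ψs ψt : X.functionField) (φu φv : X.presheaf.stalk ξ)
    (h1 : tameFracX ξ ψs ψt ≠ 0) (hφu : IsUnit φu) (hφv : IsUnit φv) :
    gOf ξ ψs ψt φu φv ≠ 0 := by
  unfold gOf
  exact mul_ne_zero (mul_ne_zero h1
    (zpow_ne_zero _ (Groth.Agent.H95.SecOrd.residue_ne_zero_of_isUnit hφu)))
    (inv_ne_zero (zpow_ne_zero _ (Groth.Agent.H95.SecOrd.residue_ne_zero_of_isUnit hφv)))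

/-- (S9) nonvanishing of the function. -/
theorem gFun_ne_zero (δ : X → ℤ) (hX : Cyc.IsSetup X δ) {L N : X.Modules}
    (hL : PicF.IsInvertible L) (hN : PicF.IsInvertible N)
    (s : Cyc.secFibre L (genericPoint X)) (hs : s ≠ 0)
    (t : Cyc.secFibre N (genericPoint X)) (ht : t ≠ 0)
    (u : (ξ : X) → Cyc.secFibre N ξ) (hu : ∀ ξ, u ξ ≠ 0)
    (v : (ξ : X) → Cyc.secFibre L ξ) (hv : ∀ ξ, v ξ ≠ 0) (ξ : X)
    (hξ : δ ξ + 1 = δ (genericPoint X)) : gFun hL hN s t u v ξ ≠ 0 := by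
  haveI : IsLocallyNoetherian X := hX.1
  obtain ⟨d, hd, hδ⟩ := Groth.Agent.H45.KeyS1.exists_dim_stalk δ hX ξ
  have hd1 : d = 1 := by omega
  subst hd1
  have hR : ringKrullDim (X.presheaf.stalk ξ) = 1 := by simpa using hd
  unfold gFun
  generalize Classical.choice (nonempty_gData hL hN s t ξ (u ξ) (v ξ)) = D
  have hψs : D.ψs ≠ 0 :=
    (Groth.Agent.H95.SecOrd.isUnit_of_mk_ne_zero (genericPoint X) D.hη s hs D.ψs D.hs).ne_zero
  have hψt : D.ψt ≠ 0 :=
    (Groth.Agent.H95.SecOrd.isUnit_of_mk_ne_zero (genericPoint X) D.hη t ht D.ψt D.ht).ne_zero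
  have hφu : IsUnit D.φu :=
    Groth.Agent.H95.SecOrd.isUnit_of_mk_ne_zero ξ D.hξ (u ξ) (hu ξ) D.φu D.hu
  have hφv : IsUnit D.φv :=
    Groth.Agent.H95.SecOrd.isUnit_of_mk_ne_zero ξ D.hξ (v ξ) (hv ξ) D.φv D.hv
  exact gOf_ne_zero ξ D.ψs D.ψt D.φu D.φv
    (Groth.Agent.H87.KeyRing.tameFrac_ne_zero (X.presheaf.stalk ξ) X.functionField hR D.ψs D.ψt hψs hψt) hφu hφv

end Groth.Agent.H5.KeyS9
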