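import Mathlib
import Groth.Prelude.Def_Red2
import Groth.Prelude.Def_ActBC
import Groth.Agent.H43.LSDefs
set_option autoImplicit false
universe u
open CategoryTheory Limits MonoidalCategory CartesianMonoidalCategory MonObj GrpObj AlgebraicGeometry
open Groth.Agent.H43.LS

namespace Groth.Agent.H5.LS_GLUE

theorem exists_glue_over {S : Scheme.{u}} {X Y : Over S} {κ : Type u} (U : κ → S.Opens)
    (hU : ∀ s : S, ∃ i, s ∈ U i) (f : ∀ i, Red.bc (U i).ι X ⟶ Red.bc (U i).ι Y)
    (hc : ∀ i j, Compat (f i) (f j)) :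
    ∃ φ : X ⟶ Y, ∀ i, (Over.pullback (U i).ι).map φ = f i := by
  let 𝒰 : X.left.OpenCover := {
    I₀ := κ
    X := fun i => pullback X.hom (U i).ι
    f := fun i => pullback.fst X.hom (U i).ι
    mem₀ := by
      rw [Scheme.presieve₀_mem_precoverage_iff]
      refine ⟨fun x => ?_, fun i => inferInstance⟩
      obtain ⟨i, hi⟩ := hU (X.hom x)
      refine ⟨i, ?_⟩
      have := Scheme.Pullback.range_fst X.hom (U i).ι
      change x ∈ Set.range (pullback.fst X.hom (U i).ι)
      rw [this]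
      simpa using hi }
  let g : ∀ i : κ, pullback X.hom (U i).ι ⟶ Y.left :=
    fun i => (f i).left ≫ pullback.fst Y.hom (U i).ι
  have hg : ∀ i j : κ, pullback.fst (𝒰.f i) (𝒰.f j) ≫ g i = pullback.snd (𝒰.f i) (𝒰.f j) ≫ g j := by
    intro i j
    exact hc i j _ (pullback.fst (𝒰.f i) (𝒰.f j)) (pullback.snd (𝒰.f i) (𝒰.f j)) pullback.condition
  let G : X.left ⟶ Y.left := 𝒰.glueMorphisms g hg
  have hG : ∀ i : κ, pullback.fst X.hom (U i).ι ≫ G = g i := fun i => 𝒰.ι_glueMorphisms g hg i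
  have hfw : ∀ i : κ, (f i).left ≫ pullback.snd Y.hom (U i).ι = pullback.snd X.hom (U i).ι :=
    fun i => Over.w (f i)
  have hw : G ≫ Y.hom = X.hom := by
    apply 𝒰.hom_ext
    intro i
    change pullback.fst X.hom (U i).ι ≫ G ≫ Y.hom = pullback.fst X.hom (U i).ι ≫ X.hom
    rw [← Category.assoc, hG i]
    change ((f i).left ≫ pullback.fst Y.hom (U i).ι) ≫ Y.hom = _
    rw [Category.assoc, pullback.condition, ← Category.assoc, hfw i, pullback.condition]
  refine ⟨Over.homMk G hw, fun i => ?_⟩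
  apply Over.OverMorphism.ext
  apply pullback.hom_ext
  · change pullback.lift (pullback.fst X.hom (U i).ι ≫ G) (pullback.snd X.hom (U i).ι) _ ≫
      pullback.fst Y.hom (U i).ι = (f i).left ≫ pullback.fst Y.hom (U i).ι
    exact (pullback.lift_fst _ _ _).trans (hG i)
  · change pullback.lift (pullback.fst X.hom (U i).ι ≫ G) (pullback.snd X.hom (U i).ι) _ ≫
      pullback.snd Y.hom (U i).ι = (f i).left ≫ pullback.snd Y.hom (U i).ι
    exact (pullback.lift_snd _ _ _).trans (hfw i).symm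

end Groth.Agent.H5.LS_GLUE
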