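import Mathlib
import Groth.Prelude

set_option autoImplicit false
universe u
open CategoryTheory CategoryTheory.Limits AlgebraicGeometry

namespace Groth.Agent.H5.NH

theorem G0 {C D : Type*} [Category C] [Category D] [Preadditive C] [Preadditive D] (F : C ⥤ D)
    [F.Additive] [F.Full] [F.Faithful] (E : CochainComplex C ℤ)
    (h : Homotopy (𝟙 ((F.mapHomologicalComplex (ComplexShape.up ℤ)).obj E)) 0) :
    Nonempty (Homotopy (𝟙 E) 0) := by
  let g : ∀ i j : ℤ, F.obj (E.X i) ⟶ F.obj (E.X j) := fun i j => h.hom i j
  have hg : ∀ i j, F.map (F.preimage (g i j)) = h.hom i j := fun i j => F.map_preimage (g i j)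
  refine ⟨{ hom := fun i j => F.preimage (g i j), zero := ?_, comm := ?_ }⟩
  · intro i j hij
    apply F.map_injective
    rw [hg, h.zero i j hij, F.map_zero]
    rfl
  · intro i
    apply F.map_injective
    have := h.comm i
    simp only [HomologicalComplex.id_f, HomologicalComplex.zero_f, add_zero] at this ⊢
    rw [F.map_add, F.map_id]
    have e1 : F.map ((dNext i) fun i j => F.preimage (g i j)) = (dNext i) h.hom := by
      simp only [dNext, AddMonoidHom.mk'_apply, F.map_comp, hg]
      rfl
    have e2 : F.map ((prevD i) fun i j => F.preimage (g i j)) = (prevD i) h.hom := by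
      simp only [prevD, AddMonoidHom.mk'_apply, F.map_comp, hg]
      rfl
    rw [e1, e2]
    exact this

end Groth.Agent.H5.NH
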