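import Mathlib
import Groth.Prelude

set_option autoImplicit false
universe u
open CategoryTheory CategoryTheory.Limits AlgebraicGeometry

namespace Groth.Agent.H5.NH

theorem G3a {C D : Type*} [Category C] [Category D] [Abelian C] [Abelian D] (T : C ⥤ D)
    [T.Additive] [PreservesFiniteLimits T] [PreservesFiniteColimits T]
    (K : CochainComplex C ℤ) (h : K.Acyclic) :
    ((T.mapHomologicalComplex (ComplexShape.up ℤ)).obj K).Acyclic := by
  intro i
  have hi := h i
  rw [HomologicalComplex.exactAt_iff' _ (i-1) i (i+1) (by simp) (by simp)] at hi ⊢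
  exact hi.map T

theorem G3b {C D : Type*} [Category C] [Category D] [Abelian C] [Abelian D] (T : C ⥤ D)
    [T.Additive] [PreservesFiniteLimits T] [PreservesFiniteColimits T] [T.Faithful]
    (K : CochainComplex C ℤ)
    (h : ((T.mapHomologicalComplex (ComplexShape.up ℤ)).obj K).Acyclic) : K.Acyclic := by
  intro i
  have hi := h i
  rw [HomologicalComplex.exactAt_iff' _ (i-1) i (i+1) (by simp) (by simp)] at hi ⊢
  exact (ShortComplex.exact_map_iff_of_faithful _ T).1 hi

end Groth.Agent.H5.NH
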