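import Mathlib.Algebra.Category.ModuleCat.Presheaf.Abelian
import Mathlib.Algebra.Category.ModuleCat.Presheaf.Generator
import Mathlib.Algebra.Category.Grp.AB
import Mathlib.CategoryTheory.Abelian.GrothendieckAxioms.FunctorCategory
import Mathlib.CategoryTheory.Abelian.GrothendieckCategory.Basic
import Mathlib.CategoryTheory.Functor.ReflectsIso.Balanced
import Mathlib.CategoryTheory.Limits.Preserves.Filtered

set_option autoImplicit false
universe u

namespace Groth.Agent.H5

open CategoryTheory Limits

variable {C : Type u} [SmallCategory C] (O : Cᵒᵖ ⥤ RingCat.{u})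

theorem presheafOfModules_toPresheaf_reflectsIsomorphisms :
    (PresheafOfModules.toPresheaf.{u} O).ReflectsIsomorphisms := by
  infer_instance

theorem presheafOfModules_hasExactColimitsOfShape (J : Type u) [SmallCategory J] [IsFiltered J] :
    HasExactColimitsOfShape J (PresheafOfModules.{u} O) := by
  have := presheafOfModules_toPresheaf_reflectsIsomorphisms O
  have : ReflectsFiniteLimits (PresheafOfModules.toPresheaf.{u} O) :=
    ⟨fun K _ _ => reflectsLimitsOfShape_of_reflectsIsomorphisms⟩
  exact HasExactColimitsOfShape.domain_of_functor J (PresheafOfModules.toPresheaf.{u} O)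

theorem presheafOfModules_hasSeparator : HasSeparator (PresheafOfModules.{u} O) := by
  have h := PresheafOfModules.freeYoneda.isSeparating O
  exact ⟨_, (h : ObjectProperty.IsSeparating (.ofObj (yoneda ⋙ PresheafOfModules.free O).obj)).isSeparator_coproduct⟩

theorem presheafOfModules_isGrothendieckAbelian :
    IsGrothendieckAbelian.{u} (PresheafOfModules.{u} O) where
  ab5OfSize := ⟨fun J _ _ => presheafOfModules_hasExactColimitsOfShape O J⟩
  hasSeparator := presheafOfModules_hasSeparator O

end Groth.Agent.H5
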